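import Cfsg.Agent.Lib.RankTwoModel.Hyp
import Cfsg.Agent.Lib.GU2Cent.SLOdd
import Cfsg.Agent.Lib.PSLThreeInvolution
import Cfsg.Agent.Lib.Fusion.PSUThreeSimple
import Cfsg.Agent.Lib.Phan.LiftThree
import Cfsg.Agent.Lib.SimpleM11.Columns
import Cfsg.Agent.Lib.SLCard

/-!
In the models the core of an involution centraliser is central in it.

Blueprint: `blueprint/RankTwo_L5.md` (P5, M1).
-/

set_option autoImplicit false
set_option linter.unusedSectionVars false
set_option linter.style.haveILetI false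

namespace CfsgLib.RankTwoModel

open Cfsg Matrix

universe u v

/-- A normal subgroup of odd order is central if its trace on the kernel of a map to an abelian group is trivial. -/
theorem central_of_det {Γ A S : Type*} [Group Γ] [Finite Γ] [CommGroup A] [Group S] (d : Γ →* A) (ι : S →* Γ)
    (hι : Function.Injective ι) (hd : ∀ g, d g = 1 → g ∈ ι.range)
    (hS : ∀ M : Subgroup S, M.Normal → (∀ g ∈ M, Odd (orderOf g)) → M = ⊥)
    {N : Subgroup Γ} [N.Normal] (hN : Odd (Nat.card N)) : N ≤ Subgroup.center Γ := by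
  intro x hx
  refine Subgroup.mem_center_iff.2 fun g => ?_
  obtain ⟨s, hs⟩ := hd (g * x * g⁻¹ * x⁻¹) (by
    rw [map_mul, map_mul, map_mul, map_inv, map_inv, mul_inv_cancel_comm, mul_inv_cancel])
  have hb := hS (N.comap ι) inferInstance fun m hm => by
    rw [← orderOf_injective ι hι]
    exact hN.of_dvd_nat (Subgroup.orderOf_dvd_natCard _ hm)
  have hsm : s ∈ N.comap ι := by
    show ι s ∈ N
    rw [hs]
    exact mul_mem ((inferInstance : N.Normal).conj_mem x hx g) (inv_mem hx)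
  rw [hb, Subgroup.mem_bot] at hsm
  rw [hsm, map_one] at hs
  exact mul_inv_eq_iff_eq_mul.1 (mul_inv_eq_one.1 hs.symm)

/-- Odd subgroups normal in an image with odd kernel of such a group are central in it. -/
theorem central_of_hom {Γ X : Type*} [Group Γ] [Finite Γ] [Group X] (f : Γ →* X) (hk : ∀ g, f g = 1 → Odd (orderOf g))
    (hc : ∀ N : Subgroup Γ, N.Normal → Odd (Nat.card N) → N ≤ Subgroup.center Γ) {R : Subgroup X}
    (hRf : R ≤ f.range) (hR : Odd (Nat.card R)) (hn : ∀ a ∈ f.range, ∀ r ∈ R, a * r * a⁻¹ ∈ R) :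
    ∀ a ∈ f.range, ∀ r ∈ R, a * r = r * a := by
  have hN : (R.comap f).Normal := ⟨fun x hx g => by
    show f (g * x * g⁻¹) ∈ R
    rw [map_mul, map_mul, map_inv]
    exact hn _ ⟨g, rfl⟩ _ hx⟩
  have hodd : Odd (Nat.card (R.comap f)) := by
    haveI : Fact (Nat.Prime 2) := ⟨Nat.prime_two⟩
    rw [← Nat.not_even_iff_odd, even_iff_two_dvd]
    intro hd
    obtain ⟨y, hy⟩ := exists_prime_orderOf_dvd_card' (G := ↥(R.comap f)) 2 hd
    rw [← Subgroup.orderOf_coe] at hy
    have h1 : orderOf (f (y : Γ)) ∣ 2 := hy ▸ orderOf_map_dvd f (y : Γ)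
    rcases (Nat.dvd_prime Nat.prime_two).1 h1 with e | e
    · have := hk _ (orderOf_eq_one_iff.1 e)
      rw [hy] at this
      exact Nat.not_even_iff_odd.2 this even_two
    · have h2 := Subgroup.orderOf_dvd_natCard R y.2
      rw [e] at h2
      exact Nat.not_even_iff_odd.2 hR (even_iff_two_dvd.2 h2)
  rintro _ ⟨g, rfl⟩ r hr
  obtain ⟨x, rfl⟩ := hRf hr
  rw [← map_mul, ← map_mul, Subgroup.mem_center_iff.1 (hc _ hN hodd (show x ∈ R.comap f from hr)) g]

section

variable {F : Type v} [Field F] [Fintype F]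

theorem gl_odd_central (hF : Odd (Fintype.card F)) (N : Subgroup (GL (Fin 2) F)) [N.Normal]
    (hN : Odd (Nat.card N)) : N ≤ Subgroup.center (GL (Fin 2) F) := by
  refine central_of_det GeneralLinearGroup.det Matrix.SpecialLinearGroup.toGL ?_ (fun g hg => ?_)
    (fun M hM ho => @CfsgLib.GU2Cent.sl2_odd_normal F _ _ hF M hM ho) hN
  · intro a b e
    exact Subtype.ext (congrArg Units.val e)
  · exact ⟨⟨g.1, congrArg Units.val hg⟩, Units.ext rfl⟩

theorem gu_odd_central {q : ℕ} (hF : Fintype.card F = q ^ 2) (hodd : Odd q) (N : Subgroup ↥(Cfsg.GU 2 F q))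
    [N.Normal] (hN : Odd (Nat.card N)) : N ≤ Subgroup.center ↥(Cfsg.GU 2 F q) := by
  obtain ⟨K, _, _, hK⟩ := CfsgLib.SUCover.exists_K hF
  obtain ⟨φ, B, -, Φ, -⟩ := CfsgLib.Phan.exists_sl_model hF hK
  let ι₀ : ↥(Cfsg.SU 2 F q) →* ↥(Cfsg.GU 2 F q) :=
    (Matrix.SpecialLinearGroup.toGL.comp (Cfsg.SU 2 F q).subtype).codRestrict (Cfsg.GU 2 F q) fun g => g.2
  have hι₀ : Function.Injective ι₀ := fun a b e => Subtype.ext (Subtype.ext (congrArg (fun x => x.1.1) e))
  refine central_of_det (GeneralLinearGroup.det.comp (Cfsg.GU 2 F q).subtype) (ι₀.comp Φ.toMonoidHom)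
    (hι₀.comp Φ.injective) (fun g hg => ?_)
    (fun M hM ho => @CfsgLib.GU2Cent.sl2_odd_normal K _ _ (by rw [hK]; exact hodd) M hM ho) hN
  refine ⟨Φ.symm ⟨⟨g.1.1, congrArg Units.val hg⟩, g.2⟩, Subtype.ext (Units.ext ?_)⟩
  show (Φ (Φ.symm _)).1.1 = g.1.1
  rw [MulEquiv.apply_symm_apply]

open CfsgLib.PSUThree in
/-- The centraliser of the standard involution of `PSU₃(q)`. -/
theorem psu_centralizer {q : ℕ} (hF : Fintype.card F = q ^ 2) (hodd : Odd q) :
    ∃ f : ↥(Cfsg.GU 2 F q) →* Cfsg.PSU 3 F q, (∀ g, f g = 1 → Odd (orderOf g)) ∧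
      ∃ t, orderOf t = 2 ∧ f.range = Subgroup.centralizer ({t} : Set (Cfsg.PSU 3 F q)) := by
  classical
  have h2 : (2 : F) ≠ 0 := Ring.two_ne_zero fun h => by
    have := (FiniteField.even_card_iff_char_two).mp h
    rw [hF, Nat.pow_mod, Nat.odd_iff.1 hodd] at this
    simp at this
  have hneg : ∀ x : F, x = -x → x = 0 := fun x hx => by
    have : (2 : F) * x = 0 := by linear_combination hx
    exact (mul_eq_zero.1 this).resolve_left h2
  have hm : (-1 : GL (Fin 2) F) ∈ Cfsg.GU 2 F q := by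
    intro u v
    show Cfsg.hermForm 2 F q ((-1 : Matrix (Fin 2) (Fin 2) F) *ᵥ u) ((-1 : Matrix (Fin 2) (Fin 2) F) *ᵥ v) = _
    simp [Cfsg.hermForm, Matrix.neg_mulVec, hodd.neg_pow]
  set m : ↥(Cfsg.GU 2 F q) := ⟨-1, hm⟩
  have hmm : m * m = 1 := Subtype.ext (by simp [m])
  have hm1 : m ≠ 1 := fun e => by
    have := congrArg (fun x : ↥(Cfsg.GU 2 F q) => x.1.1 0 0) e
    simp [m] at this
    exact h2 (by linear_combination -this)
  set t := toPSU hF m
  have htt : t * t = 1 := by rw [← map_mul, hmm, map_one]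
  have ht : orderOf t = 2 := orderOf_eq_prime (by rw [sq]; exact htt) fun e => hm1 (by
    have h3 := toPSU_eq_one hF e
    rwa [pow_succ, pow_two, hmm, one_mul] at h3)
  refine ⟨toPSU hF, fun g hg => ?_, t, ht, le_antisymm ?_ ?_⟩
  · exact (show Odd 3 by decide).of_dvd_nat (orderOf_dvd_of_pow_eq_one (toPSU_eq_one hF hg))
  · rintro _ ⟨g, rfl⟩
    refine Subgroup.mem_centralizer_singleton_iff.2 ?_
    rw [← map_mul, ← map_mul]
    congr 1
    exact Subtype.ext (by simp [m])
  intro x hx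
  obtain ⟨M, rfl⟩ := QuotientGroup.mk'_surjective _ x
  set D := toSU hF m with hD
  have hDD : D * D = 1 := by rw [← map_mul, hmm, map_one]
  set c := M * D * M⁻¹ * D⁻¹ with hc
  have hcc : c ∈ Subgroup.center (Cfsg.SU 3 F q) := by
    rw [← QuotientGroup.eq_one_iff]
    show QuotientGroup.mk' _ c = 1
    have hx' : QuotientGroup.mk' _ M * QuotientGroup.mk' _ D = QuotientGroup.mk' _ D * QuotientGroup.mk' _ M :=
      Subgroup.mem_centralizer_singleton_iff.1 hx
    rw [hc, map_mul, map_mul, map_mul, map_inv, map_inv, hx']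
    exact mul_inv_eq_one.2 (mul_inv_eq_iff_eq_mul.2 rfl)
  have hcD : M * D * M⁻¹ = c * D := by rw [hc]; group
  have hc2 : c * c = 1 := by
    have h1 : (M * D * M⁻¹) * (M * D * M⁻¹) = 1 := by
      rw [show (M * D * M⁻¹) * (M * D * M⁻¹) = M * (D * D) * M⁻¹ by group, hDD, mul_one, mul_inv_cancel]
    rw [hcD, mul_assoc, ← mul_assoc D, Subgroup.mem_center_iff.1 hcc D, mul_assoc c D, hDD, mul_one] at h1
    exact h1
  have hc3 : c ^ 3 = 1 := by
    have h1 : (⟨c, hcc⟩ : Subgroup.center (Cfsg.SU 3 F q)) ^ Nat.gcd 3 (q + 1) = 1 := by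
      rw [← Cfsg.Agent.S0280.center_card hF 3 (by norm_num)]
      exact pow_card_eq_one'
    exact congrArg Subtype.val (orderOf_dvd_iff_pow_eq_one.mp
      ((orderOf_dvd_of_pow_eq_one h1).trans (Nat.gcd_dvd_left _ _)))
  have hc1 : c = 1 := by rwa [pow_succ, pow_two, hc2, one_mul] at hc3
  rw [hc1, one_mul, mul_inv_eq_iff_eq_mul] at hcD
  have hmat := congrArg (fun y : Cfsg.SU 3 F q => y.1.1) hcD
  have hDv : D.1.1 = !![-1, 0, 0; 0, -1, 0; 0, 0, 1] := by
    rw [hD, toSU_val]
    ext i j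
    fin_cases i <;> fin_cases j <;> simp [m, CfsgLib.PSLThreeSylow.emb, Matrix.det_fin_two]
  change M.1.1 * D.1.1 = D.1.1 * M.1.1 at hmat
  rw [hDv] at hmat
  have h02 : M.1.1 0 2 = 0 := hneg _ (by
    simpa [Matrix.mul_apply, Fin.sum_univ_three] using congrFun (congrFun hmat 0) 2)
  have h12 : M.1.1 1 2 = 0 := hneg _ (by
    simpa [Matrix.mul_apply, Fin.sum_univ_three] using congrFun (congrFun hmat 1) 2)
  have h20 : M.1.1 2 0 = 0 := hneg _ (by
    simpa [Matrix.mul_apply, Fin.sum_univ_three] using (congrFun (congrFun hmat 2) 0).symm)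
  have h21 : M.1.1 2 1 = 0 := hneg _ (by
    simpa [Matrix.mul_apply, Fin.sum_univ_three] using (congrFun (congrFun hmat 2) 1).symm)
  set A : Matrix (Fin 2) (Fin 2) F := !![M.1.1 0 0, M.1.1 0 1; M.1.1 1 0, M.1.1 1 1] with hA
  have hdet : A.det * M.1.1 2 2 = 1 := by
    have := M.1.2
    rw [Matrix.det_fin_three, h02, h12, h20, h21] at this
    rw [hA, Matrix.det_fin_two_of]
    linear_combination this
  have hAu : A.det ≠ 0 := fun e => by rw [e, zero_mul] at hdet; exact zero_ne_one hdet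
  have hAmem : Matrix.GeneralLinearGroup.mkOfDetNeZero A hAu ∈ Cfsg.GU 2 F q := by
    intro u v
    have h := M.2 ![u 0, u 1, 0] ![v 0, v 1, 0]
    change Cfsg.hermForm 3 F q (M.1.1 *ᵥ ![u 0, u 1, 0]) (M.1.1 *ᵥ ![v 0, v 1, 0]) = _ at h
    show Cfsg.hermForm 2 F q (A *ᵥ u) (A *ᵥ v) = _
    simp [Cfsg.hermForm, hA, Matrix.mulVec, dotProduct, Fin.sum_univ_two, Fin.sum_univ_three, h20, h21,
      zero_pow (show q ≠ 0 by rintro rfl; simp at hodd)] at h ⊢
    linear_combination h
  refine ⟨⟨_, hAmem⟩, congrArg (QuotientGroup.mk' _) (Subtype.ext (Subtype.ext ?_))⟩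
  rw [toSU_val]
  show CfsgLib.PSLThreeSylow.emb A A.det⁻¹ = M.1.1
  have h22 : A.det⁻¹ = M.1.1 2 2 := inv_eq_of_mul_eq_one_right hdet
  ext i j
  fin_cases i <;> fin_cases j <;> simp [CfsgLib.PSLThreeSylow.emb, hA, h02, h12, h20, h21] <;>
    simpa [hA, Matrix.det_fin_two] using h22

end

/-- Models have one class of involutions. -/
theorem QW.all_conj {X : Type u} [Group X] [Finite X] (hs : IsSimpleGroup X) (hq : QW X) (a b : X)
    (ha : orderOf a = 2) (hb : orderOf b = 2) : IsConj a b := by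
  haveI := hs
  have hidx := CfsgLib.BrauerOrder.index_ne_two hq.noncomm
  obtain ⟨S, hS⟩ := hq
  refine CfsgLib.RankTwoSimple.isConj_of_card_classes ?_ ha hb
  rcases hS with hS | hS
  · exact (CfsgLib.QDWNoTwo.classes_of_quasiDihedral S hS hidx).1
  · obtain ⟨n, hn2, hn, U, Q, hUS, hUab, hUc, hQS, ⟨eQ⟩⟩ := CfsgLib.QDWNoTwo.wreathed_local S hS
    exact (CfsgLib.QDWNoTwo.wreathed_six S hS hidx n hn (by omega) U hUS hUab hUc Q hQS eQ).2

/-- **In a model an odd normal subgroup of an involution centraliser is central in it.** -/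
theorem Model.odd_central {X : Type u} [Group X] [Finite X] (hs : IsSimpleGroup X) (hq : QW X) (hm : Model X)
    {t : X} (ht : orderOf t = 2) {R : Subgroup X} (hR : Odd (Nat.card R))
    (hRC : R ≤ Subgroup.centralizer ({t} : Set X))
    (hn : ∀ c ∈ Subgroup.centralizer ({t} : Set X), ∀ r ∈ R, c * r * c⁻¹ ∈ R) :
    ∀ c ∈ Subgroup.centralizer ({t} : Set X), ∀ r ∈ R, c * r = r * c := by
  haveI := hs
  rcases hm with ⟨F, _, _, hF, ⟨e⟩⟩ | ⟨F, _, _, q, hF, hodd, ⟨e⟩⟩ | hM
  · have het : orderOf (e t) = 2 := (MulEquiv.orderOf_eq e t).trans ht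
    obtain ⟨Z, hZn, hZ, hZc, ⟨E⟩⟩ := CfsgLib.PSLThree.exists_centralizer_iso hF (e t) het
    haveI := hZn
    let f : GL (Fin 2) F →* X := e.symm.toMonoidHom.comp
      ((Subgroup.centralizer ({e t} : Set (Matrix.ProjectiveSpecialLinearGroup (Fin 3) F))).subtype.comp
        (E.symm.toMonoidHom.comp (QuotientGroup.mk' Z)))
    have hfr : f.range = Subgroup.centralizer ({t} : Set X) := by
      ext x
      rw [Subgroup.mem_centralizer_singleton_iff]
      constructor
      · rintro ⟨g, rfl⟩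
        refine e.injective ?_
        have := Subgroup.mem_centralizer_singleton_iff.1 (E.symm (QuotientGroup.mk' Z g)).2
        rw [map_mul, map_mul]
        simpa [f] using this
      · intro hx
        obtain ⟨g, hg⟩ := QuotientGroup.mk'_surjective Z
          (E ⟨e x, Subgroup.mem_centralizer_singleton_iff.2 (by rw [← map_mul, ← map_mul, hx])⟩)
        refine ⟨g, ?_⟩
        show e.symm (E.symm (QuotientGroup.mk' Z g)).1 = x
        rw [hg, E.symm_apply_apply, e.symm_apply_apply]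
    have hk : ∀ g, f g = 1 → Odd (orderOf g) := fun g hg => by
      have hgZ : g ∈ Z := by
        rw [← QuotientGroup.eq_one_iff]
        have h1 : e.symm (E.symm (QuotientGroup.mk' Z g) : Matrix.ProjectiveSpecialLinearGroup (Fin 3) F) = 1 := hg
        rw [map_eq_one_iff _ e.symm.injective] at h1
        exact (map_eq_one_iff _ E.symm.injective).1 (Subtype.ext h1)
      have := Subgroup.orderOf_dvd_natCard Z hgZ
      rw [hZc] at this
      exact (show Odd 3 by decide).of_dvd_nat (this.trans (Nat.gcd_dvd_right _ _))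
    rw [← hfr] at hRC hn ⊢
    exact central_of_hom f hk (fun N hN ho => @gl_odd_central F _ _ hF N hN ho) hRC hR hn
  · obtain ⟨f₀, hk₀, t₀, ht₀, hf₀⟩ := psu_centralizer hF hodd
    obtain ⟨g, hg⟩ := isConj_iff.1 (hq.all_conj hs (e.symm t₀) t ((MulEquiv.orderOf_eq _ _).trans ht₀) ht)
    let ψ : Cfsg.PSU 3 F q ≃* X := e.symm.trans (MulAut.conj g)
    have hψ : ψ t₀ = t := hg
    let f : ↥(Cfsg.GU 2 F q) →* X := ψ.toMonoidHom.comp f₀
    have hfr : f.range = Subgroup.centralizer ({t} : Set X) := by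
      ext x
      rw [Subgroup.mem_centralizer_singleton_iff]
      constructor
      · rintro ⟨y, rfl⟩
        have := Subgroup.mem_centralizer_singleton_iff.1 (hf₀.le ⟨y, rfl⟩)
        rw [← hψ, show f y = ψ (f₀ y) from rfl, ← map_mul, ← map_mul, this]
      · intro hx
        obtain ⟨y, hy⟩ := hf₀.ge (show ψ.symm x ∈ Subgroup.centralizer ({t₀} : Set _) from
          Subgroup.mem_centralizer_singleton_iff.2 (ψ.injective (by
            rw [map_mul, map_mul, MulEquiv.apply_symm_apply, hψ, hx])))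
        exact ⟨y, by show ψ (f₀ y) = x; rw [hy, MulEquiv.apply_symm_apply]⟩
    have hk : ∀ y, f y = 1 → Odd (orderOf y) := fun y hy => hk₀ y ((map_eq_one_iff _ ψ.injective).1 hy)
    rw [← hfr] at hRC hn ⊢
    exact central_of_hom f hk (fun N hN ho => @gu_odd_central F _ _ q hF hodd N hN ho) hRC hR hn
  · letI := Fintype.ofFinite X
    have hcard := CfsgSimpleM11.cent_involution hM ht
    have hidx := CfsgLib.BrauerOrder.index_ne_two hq.noncomm
    obtain ⟨S, hS⟩ := hq
    obtain ⟨F, _, _, hF, ⟨eL⟩⟩ :=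
      CfsgLib.GWConseq.QDCentre.centralizer_sl CfsgLib.GW.gwThm S hS hidx t ht
    set C := Subgroup.centralizer ({t} : Set X)
    have hO : oddCore C = ⊥ := by
      have h1 := Subgroup.card_eq_card_quotient_mul_card_subgroup (oddCore C)
      rw [hcard] at h1
      have h3 : Nat.card (commutator (C ⧸ oddCore C)) ∣ Nat.card (C ⧸ oddCore C) :=
        Subgroup.card_subgroup_dvd_card _
      rw [Nat.card_congr eL.toEquiv, CfsgLib.SLCard.card_SL_two] at h3
      refine Subgroup.eq_bot_of_card_eq _ ?_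
      have hd : Nat.card (oddCore C) ∣ 48 := Dvd.intro_left _ h1.symm
      have ho := CfsgLib.odd_card_oddCore (G := C)
      have hle := Nat.le_of_dvd Nat.card_pos h3
      have hq3 : 3 ≤ Fintype.card F := by
        have := Fintype.one_lt_card (α := F)
        obtain ⟨k, hk⟩ := hF
        omega
      have h24 : 24 ≤ Fintype.card F * (Fintype.card F ^ 2 - 1) :=
        le_trans (by norm_num) (Nat.mul_le_mul hq3 (Nat.sub_le_sub_right (Nat.pow_le_pow_left hq3 2) 1))
      obtain ⟨k, hk⟩ := ho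
      have : Nat.card (oddCore C) ≤ 2 := by
        by_contra hc
        have := Nat.mul_le_mul (h24.trans hle) (show 3 ≤ Nat.card (oddCore C) by omega)
        omega
      omega
    intro c _ r hr
    have hsub : R.subgroupOf C ≤ oddCore C := by
      haveI : (R.subgroupOf C).Normal := ⟨fun x hx g => hn g g.2 x hx⟩
      exact CfsgLib.le_oddCore (CfsgLib.BG.odd_subgroupOf hR)
    have hr1 : (⟨r, hRC hr⟩ : C) = 1 := by
      rw [← Subgroup.mem_bot, ← hO]
      exact hsub hr
    rw [show r = 1 from congrArg Subtype.val hr1, mul_one, one_mul]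

end CfsgLib.RankTwoModel
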