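import Cfsg.Agent.Lib.RankTwoModel.Comps
import Cfsg.Agent.Lib.RankTwoModel.Cover
import Cfsg.Agent.Lib.JankoReeMult.PSLTwo

/-!
A prime `r` for which `D` moves `P = O_r(C)`, and the action of the involutions of `C` on `P`.

Blueprint: `blueprint/RankTwo_L5.md` (P5, setting).
-/

set_option autoImplicit false
set_option linter.unusedSectionVars false
set_option linter.style.haveILetI false

namespace CfsgLib.RankTwoModel

open Cfsg CfsgLib.BG CfsgLib.GW CfsgLib.BenderMax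

universe u

variable {G : Type u} [Group G] [Finite G]

/-- An involution fixing no non-trivial element of a group of odd order inverts it. -/
theorem inverts_of_free {P : Subgroup G} (hPo : Odd (Nat.card P)) {τ : G} (hτ : orderOf τ = 2)
    (hτP : τ ∈ Subgroup.normalizer (P : Set G)) (hfree : ∀ y ∈ P, τ * y = y * τ → y = 1) :
    ∀ y ∈ P, τ * y * τ⁻¹ = y⁻¹ := by
  intro y hy
  obtain ⟨p, ⟨hp1, hp2, hp3⟩, -⟩ := (Cfsg.Agent.S1124.result τ hτ P hPo
    fun x hx => mem_normalizer_of_mem hτP hx).1 y hy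
  obtain ⟨hp, hc⟩ := Subgroup.mem_inf.1 hp1
  rw [hp3, hfree _ hp (Subgroup.mem_centralizer_singleton_iff.1 hc).symm, one_mul]
  exact hp2.2

/-- An involution moving `O_r(M)` inverts a non-trivial element of it centralising a fixed `r`-subgroup. -/
theorem axb {r : ℕ} (hr : r.Prime) (hr2 : r ≠ 2) {M : Subgroup G} {v : G} (hv : orderOf v = 2) (hvM : v ∈ M)
    (hmv : ∃ y ∈ OO r M, v * y ≠ y * v) {A0 : Subgroup G} (hA : IsPGroup r A0) (hAM : A0 ≤ M)
    (hAv : ∀ a ∈ A0, a * v = v * a) :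
    ∃ y ∈ OO r M, y ≠ 1 ∧ (∀ a ∈ A0, a * y = y * a) ∧ v * y * v⁻¹ = y⁻¹ := by
  haveI := Fact.mk hr
  set Q := OO r M ⊓ Subgroup.centralizer (A0 : Set G) with hQ
  have hvQ : v ∈ Subgroup.normalizer (Q : Set G) := Subgroup.mem_normalizer_fintype fun y hy => by
    refine ⟨conj_OO hvM hy.1, Subgroup.mem_centralizer_iff.2 fun a ha => ?_⟩
    have h1 : Commute a y := Subgroup.mem_centralizer_iff.1 hy.2 a ha
    have h2 : Commute a v := hAv a ha
    exact ((h2.mul_right h1).mul_right h2.inv_right).eq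
  obtain ⟨y, hy, hyv⟩ : ∃ y ∈ Q, v * y ≠ y * v := by
    by_contra hno
    push Not at hno
    obtain ⟨y, hy, hne⟩ := hmv
    refine hne (centralizes_of_fixed hA (OO_isPGroup r M) (fun a ha => mem_normalizer_OO (hAM ha))
      (mem_normalizer_OO hvM) (by rw [hv]; exact (Nat.coprime_primes Nat.prime_two hr).2 (Ne.symm hr2))
      (fun a ha => hAv a ha) (fun w hw hwA => hno w ⟨hw, Subgroup.mem_centralizer_iff.2 hwA⟩) y hy)
  obtain ⟨a, ha, hap, hinv⟩ := exists_inverted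
    ((OO_odd hr hr2 M).of_dvd_nat (Subgroup.card_dvd_of_le inf_le_left)) hv hvQ hy hyv
  exact ⟨a, ha.1, fun e => by rw [e, orderOf_one] at hap; exact Nat.not_prime_one hap,
    Subgroup.mem_centralizer_iff.1 ha.2, hinv⟩

variable {d : Frame G}

/-- The projection of `D` to `SL₂(q)`. -/
theorem Frame.Spec.exists_proj (hd : d.Spec) (hq : 3 < d.q) :
    ∃ π : ↥d.D →* Matrix.SpecialLinearGroup (Fin 2) d.F, Function.Surjective π ∧
      ∀ x : ↥d.D, π x = 1 ↔ (x : G) ∈ d.O := by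
  obtain ⟨e⟩ := hd.sl
  set k := (CfsgLib.GW.exists_perfect_derived ↥d.C).choose
  set f := QuotientGroup.mk' (oddCore ↥d.C)
  have hmem : ∀ x : ↥d.D, f ⟨x, d.D_le x.2⟩ ∈ commutator (↥d.C ⧸ oddCore ↥d.C) := fun x => by
    rw [← hd.D_cover hq]
    obtain ⟨y, hy, hyx⟩ := x.2
    exact ⟨y, hy, congrArg f (Subtype.ext hyx)⟩
  refine ⟨e.toMonoidHom.comp ((f.comp (Subgroup.inclusion d.D_le)).codRestrict _ hmem), ?_, fun x => ?_⟩
  · intro m
    obtain ⟨y, hy, hye⟩ := (hd.D_cover hq).ge (e.symm m).2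
    refine ⟨⟨(y : G), ⟨y, hy, rfl⟩⟩, ?_⟩
    show e ⟨_, _⟩ = m
    rw [← e.apply_symm_apply m]
    exact congrArg e (Subtype.ext hye)
  · show e ⟨f ⟨x, d.D_le x.2⟩, _⟩ = 1 ↔ _
    rw [map_eq_one_iff _ e.injective]
    constructor
    · intro h1
      exact ⟨⟨x, d.D_le x.2⟩, (QuotientGroup.eq_one_iff _).1 (congrArg Subtype.val h1), rfl⟩
    · rintro ⟨y, hy, hyx⟩
      exact Subtype.ext ((QuotientGroup.eq_one_iff _).2
        (show (⟨x, d.D_le x.2⟩ : ↥d.C) ∈ oddCore ↥d.C from (show y = ⟨x, d.D_le x.2⟩ from Subtype.ext hyx) ▸ hy))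

theorem sl2_two_ne (hd : d.Spec) : (2 : d.F) ≠ 0 :=
  SL2Orders.two_ne_zero_of_odd (by rw [hd.card]; exact (hd.prime.odd_of_ne_two hd.podd).pow)

theorem sl2_neg_one (hd : d.Spec) :
    (-1 : Matrix.SpecialLinearGroup (Fin 2) d.F) ∈ Subgroup.center _ ∧
      orderOf (-1 : Matrix.SpecialLinearGroup (Fin 2) d.F) = 2 := by
  refine ⟨Subgroup.mem_center_iff.2 fun g => by simp, orderOf_eq_prime (by simp) fun e => sl2_two_ne hd ?_⟩
  have := congrFun (congrFun (congrArg Subtype.val e) 0) 0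
  simp at this
  linear_combination -this

theorem sl2_perfect (hd : d.Spec) (hq : 3 < d.q) : Group.IsPerfect (Matrix.SpecialLinearGroup (Fin 2) d.F) :=
  ⟨CfsgLib.StSL.perfect_SL2 (by rw [hd.card]; exact hq)⟩

/-- A normal subgroup of `SL₂(q)` is central or everything. -/
theorem sl2_normal (hd : d.Spec) (hq : 3 < d.q) (N : Subgroup (Matrix.SpecialLinearGroup (Fin 2) d.F)) [N.Normal] :
    N ≤ Subgroup.center _ ∨ N = ⊤ := by
  haveI := JankoReeMult.psl_simple (F := d.F) (by rw [hd.card]; exact hq)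
  haveI := sl2_perfect hd hq
  set π := QuotientGroup.mk' (Subgroup.center (Matrix.SpecialLinearGroup (Fin 2) d.F))
  rcases ((inferInstance : N.Normal).map π (QuotientGroup.mk'_surjective _)).eq_bot_or_eq_top with e | e
  · left
    rwa [Subgroup.map_eq_bot_iff, QuotientGroup.ker_mk'] at e
  · right
    have h1 : ∀ a, ∃ n ∈ N, ∃ c ∈ Subgroup.center (Matrix.SpecialLinearGroup (Fin 2) d.F), a = n * c := fun a => by
      obtain ⟨n, hn, hna⟩ := e.ge (Subgroup.mem_top (π a))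
      exact ⟨n, hn, n⁻¹ * a, (QuotientGroup.eq (s := Subgroup.center _)).1 hna, by group⟩
    rw [eq_top_iff, ← Group.IsPerfect.commutator_eq_top (G := Matrix.SpecialLinearGroup (Fin 2) d.F), commutator_def,
      Subgroup.commutator_le]
    intro a _ b _
    obtain ⟨n, hn, c, hc, rfl⟩ := h1 a
    rw [commutatorElement_def, show n * c * b * (n * c)⁻¹ * b⁻¹ = n * (c * b * c⁻¹) * n⁻¹ * b⁻¹ by group,
      ← Subgroup.mem_center_iff.1 hc b, mul_inv_cancel_right,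
      show n * b * n⁻¹ * b⁻¹ = n * (b * n⁻¹ * b⁻¹) by group]
    exact mul_mem hn ((inferInstance : N.Normal).conj_mem _ (inv_mem hn) b)

variable (h : Hyp G)
include h

/-- An involution of `C` other than the central one does not centralise `D` modulo the core. -/
theorem Frame.Spec.exists_moved (hd : d.Spec) (hq : 3 < d.q) {v : G} (hv : orderOf v = 2) (hvC : v ∈ d.C)
    (hvz : v ≠ d.z) : ∃ x ∈ d.D, v * x * v⁻¹ * x⁻¹ ∉ d.O := by
  haveI : Fact (Nat.Prime 2) := ⟨Nat.prime_two⟩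
  by_contra hno
  push Not at hno
  obtain ⟨π, hπ, -⟩ := hd.exists_proj hq
  haveI := sl2_perfect hd hq
  obtain ⟨T⟩ : Nonempty (Sylow 2 ↥d.D) := inferInstance
  set T0 := (T : Subgroup ↥d.D).map d.D.subtype with hT0
  have hT0D : T0 ≤ d.D := Subgroup.map_subtype_le _
  have hna : ¬ IsMulCommutative T0 := fun hc => by
    obtain ⟨hm, hm2⟩ := sl2_neg_one hd
    refine CfsgLib.SelfNormNA.transfer_false hm (by rw [Group.IsPerfect.commutator_eq_top]; trivial) hm2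
      (T.mapSurjective hπ) ?_
    rintro _ ⟨a, ha, rfl⟩ _ ⟨b, hb, rfl⟩
    rw [← map_mul, ← map_mul]
    exact congrArg π (Subtype.ext (congrArg Subtype.val
      (hc.is_comm.comm ⟨(a : G), Subgroup.mem_map_of_mem _ ha⟩ ⟨(b : G), Subgroup.mem_map_of_mem _ hb⟩) :))
  -- the conjugates of `v` under the core
  let Ω : Set G := {w | ∃ o ∈ d.O, w = o * v * o⁻¹}
  have hstab : ∀ x ∈ d.D, ∀ w ∈ Ω, x * w * x⁻¹ ∈ Ω := by
    rintro x hx _ ⟨o, ho, rfl⟩
    have hdiv : x * v * x⁻¹ * v⁻¹ ∈ d.O := by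
      have h1 := inv_mem (hno x hx)
      rwa [show (v * x * v⁻¹ * x⁻¹)⁻¹ = x * v * x⁻¹ * v⁻¹ by group] at h1
    let O' : Subgroup ↥d.C := oddCore ↥d.C
    obtain ⟨s, hs, hsc⟩ := exists_lift (O := O') CfsgLib.odd_card_oddCore (w := (⟨v, hvC⟩ : ↥d.C))
      (x := (⟨x, d.D_le hx⟩ : ↥d.C)) ((Subgroup.orderOf_mk v hvC).trans hv) (by
        obtain ⟨y, hy, hyx⟩ : ∃ y : ↥d.C, y ∈ oddCore ↥d.C ∧ (y : G) = x * v * x⁻¹ * v⁻¹ := hdiv
        exact (show y = ⟨x, d.D_le hx⟩ * ⟨v, hvC⟩ * (⟨x, d.D_le hx⟩ : ↥d.C)⁻¹ * (⟨v, hvC⟩ : ↥d.C)⁻¹ from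
          Subtype.ext hyx) ▸ hy)
    have hc : ((s : ↥d.C) : G)⁻¹ * x * v = v * (((s : ↥d.C) : G)⁻¹ * x) :=
      congrArg Subtype.val (mem_cent.1 hsc)
    refine ⟨x * o * x⁻¹ * (s : G), mul_mem (Frame.Spec.O_conj (d.D_le hx) ho) ⟨s, hs, rfl⟩, ?_⟩
    have hc' : ((s : ↥d.C) : G)⁻¹ * x * v * (((s : ↥d.C) : G)⁻¹ * x)⁻¹ = v := mul_inv_eq_iff_eq_mul.2 hc
    calc x * (o * v * o⁻¹) * x⁻¹ = x * o * x⁻¹ * (x * v * x⁻¹) * (x * o * x⁻¹)⁻¹ := by group
      _ = x * o * x⁻¹ * (s * (((s : ↥d.C) : G)⁻¹ * x * v * (((s : ↥d.C) : G)⁻¹ * x)⁻¹) * (s : G)⁻¹) *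
          (x * o * x⁻¹)⁻¹ := by group
      _ = _ := by rw [hc']; group
  letI : MulAction T0 Ω :=
    { smul := fun g w => ⟨(g : G) * w * (g : G)⁻¹, hstab g (hT0D g.2) w w.2⟩
      one_smul := fun w => Subtype.ext (show (1 : G) * w * (1 : G)⁻¹ = w by group)
      mul_smul := fun g k w => Subtype.ext (show ((g : G) * k) * w * ((g : G) * k)⁻¹ =
        (g : G) * ((k : G) * w * (k : G)⁻¹) * (g : G)⁻¹ by group) }
  have hΩ : Odd (Nat.card Ω) := by
    let F : ↥d.O → Ω := fun o => ⟨(o : G) * v * (o : G)⁻¹, o, o.2, rfl⟩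
    set K := d.O ⊓ Subgroup.centralizer ({v} : Set G)
    refine d.O_odd.of_dvd_nat ?_
    have hbij : Function.Bijective (Quotient.lift F (s := QuotientGroup.leftRel (K.subgroupOf d.O)) fun a b hab => by
        have hk := QuotientGroup.leftRel_apply.1 hab
        have hk' : ((a : G)⁻¹ * b) * v = v * ((a : G)⁻¹ * b) := mem_cent.1 hk.2
        refine Subtype.ext ?_
        show (a : G) * v * (a : G)⁻¹ = (b : G) * v * (b : G)⁻¹
        calc (a : G) * v * (a : G)⁻¹ = (a : G) * (v * ((a : G)⁻¹ * b)) * (b : G)⁻¹ := by group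
          _ = _ := by rw [← hk']; group) := by
      refine ⟨fun p q hpq => ?_, fun w => ?_⟩
      · induction p using Quotient.inductionOn with
        | h a => induction q using Quotient.inductionOn with
          | h b =>
            have e : (a : G) * v * (a : G)⁻¹ = (b : G) * v * (b : G)⁻¹ := congrArg Subtype.val hpq
            refine (QuotientGroup.eq (s := K.subgroupOf d.O)).2 ⟨(a⁻¹ * b).2, mem_cent.2 ?_⟩
            show (a : G)⁻¹ * b * v = v * ((a : G)⁻¹ * b)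
            calc (a : G)⁻¹ * b * v = (a : G)⁻¹ * ((b : G) * v * (b : G)⁻¹) * b := by group
              _ = _ := by rw [← e]; group
      · obtain ⟨o, ho, hw⟩ := w.2
        exact ⟨Quotient.mk _ ⟨o, ho⟩, Subtype.ext hw.symm⟩
    rw [← Nat.card_congr (Equiv.ofBijective _ hbij)]
    exact Subgroup.card_quotient_dvd_card (K.subgroupOf d.O)
  haveI : Finite Ω := Subtype.finite
  obtain ⟨w, hw⟩ := (T.2.map d.D.subtype : IsPGroup 2 T0).nonempty_fixed_point_of_prime_not_dvd_card Ω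
    (fun hd2 => Nat.not_even_iff_odd.2 hΩ (even_iff_two_dvd.2 hd2))
  obtain ⟨o, ho, hwo⟩ := w.2
  have hoz : o * d.z * o⁻¹ = d.z := mul_inv_eq_iff_eq_mul.2 (Frame.Spec.z_central (d.O_le ho))
  have hzv : Commute d.z v := (Frame.Spec.z_central hvC).symm
  have e := h.eq_of_fixes (T.2.map d.D.subtype) hna ((orderOf_cj o v).trans hv) hd.zord
    (by
      rw [← hoz]
      exact ((Commute.conj_iff o).2 hzv.symm).eq)
    (fun x hx => by
      have hfx : x * (w : G) * x⁻¹ = w := congrArg Subtype.val (hw ⟨x, hx⟩)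
      rw [hwo] at hfx
      exact (mul_inv_eq_iff_eq_mul.1 hfx).symm)
    (fun x hx => (Frame.Spec.z_central (d.D_le (hT0D hx))).symm)
  rw [← hoz] at e
  exact hvz (mul_left_cancel (mul_right_cancel e))

/-- A subgroup normalised by a perfect cover `E` and containing all `[v, x]`, `x ∈ E`, contains `E`. -/
theorem Frame.Spec.cover_le_of_comm (hd : d.Spec) (hq : 3 < d.q) {v : G} (hv : orderOf v = 2) (hvC : v ∈ d.C)
    (hvz : v ≠ d.z) {E : Subgroup G} [Group.IsPerfect E] (hED : E ≤ d.D)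
    (hcov : ∀ x ∈ d.D, ∃ o ∈ d.O, x * o ∈ E) (hvE : ∀ x ∈ E, v * x * v⁻¹ ∈ E) {K : Subgroup G}
    (hn : ∀ x ∈ E, ∀ k ∈ K, k ∈ E → x * k * x⁻¹ ∈ K) (hK : ∀ x ∈ E, v * x * v⁻¹ * x⁻¹ ∈ K) : E ≤ K := by
  obtain ⟨π₀, hπ₀, hker₀⟩ := hd.exists_proj hq
  set π := π₀.comp (Subgroup.inclusion hED)
  have hker : ∀ x : E, π x = 1 ↔ (x : G) ∈ d.O := fun x => hker₀ _
  have hπ : Function.Surjective π := fun m => by
    obtain ⟨x, rfl⟩ := hπ₀ m
    obtain ⟨o, ho, hxo⟩ := hcov x x.2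
    refine ⟨⟨(x : G) * o, hxo⟩, ?_⟩
    have hoD : o ∈ d.D := by simpa using mul_mem (inv_mem x.2) (hED hxo)
    show π₀ (x * ⟨o, hoD⟩) = π₀ x
    rw [map_mul, (hker₀ ⟨o, hoD⟩).2 ho, mul_one]
  set K' : Subgroup ↥E := K.subgroupOf E
  haveI hKn : K'.Normal := ⟨fun k hk x => hn x x.2 k hk k.2⟩
  haveI := hKn.map π hπ
  have hcm : ∀ x : ↥E, v * (x : G) * v⁻¹ * (x : G)⁻¹ ∈ E := fun x => mul_mem (hvE x x.2) (inv_mem x.2)
  rcases sl2_normal hd hq (K'.map π) with hc | ht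
  · exfalso
    have hmem : ∀ x : ↥E, π ⟨_, hcm x⟩ ∈ Subgroup.center (Matrix.SpecialLinearGroup (Fin 2) d.F) := fun x =>
      hc ⟨_, hK x x.2, rfl⟩
    let φ : ↥E →* Subgroup.center (Matrix.SpecialLinearGroup (Fin 2) d.F) :=
      MonoidHom.mk' (fun x => ⟨π ⟨_, hcm x⟩, hmem x⟩) fun a b => Subtype.ext (by
        show π ⟨_, hcm (a * b)⟩ = π ⟨_, hcm a⟩ * π ⟨_, hcm b⟩
        rw [show (⟨_, hcm (a * b)⟩ : ↥E) = ⟨_, hcm a⟩ * (a * ⟨_, hcm b⟩ * a⁻¹) from Subtype.ext (by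
          simp only [Subgroup.coe_mul, Subgroup.coe_inv]; group), map_mul, map_mul, map_mul, map_inv,
          Subgroup.mem_center_iff.1 (hmem b) (π a), mul_inv_cancel_right])
    have hle : commutator ↥E ≤ φ.ker := by
      rw [commutator_def, Subgroup.commutator_le]
      intro a _ b _
      rw [MonoidHom.mem_ker, map_commutatorElement]
      exact commutatorElement_eq_one_iff_mul_comm.2 (Subtype.ext (Subgroup.mem_center_iff.1 (φ b).2 (φ a).1))
    have hE : ∀ x : ↥E, v * (x : G) * v⁻¹ * (x : G)⁻¹ ∈ d.O := fun x => (hker ⟨_, hcm x⟩).1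
      (congrArg Subtype.val (hle (by rw [Group.IsPerfect.commutator_eq_top]; trivial) : φ x = 1))
    obtain ⟨x, hx, hxO⟩ := hd.exists_moved h hq hv hvC hvz
    obtain ⟨o, ho, hxo⟩ := hcov x hx
    refine hxO ?_
    have h1 := hE ⟨x * o, hxo⟩
    have h2 : v * o * v⁻¹ * o⁻¹ ∈ d.O := mul_mem (Frame.Spec.O_conj hvC ho) (inv_mem ho)
    have h3 := mul_mem h1 (inv_mem (Frame.Spec.O_conj (d.D_le hx) h2))
    rwa [show v * (x * o) * v⁻¹ * (x * o)⁻¹ * (x * (v * o * v⁻¹ * o⁻¹) * x⁻¹)⁻¹ =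
      v * x * v⁻¹ * x⁻¹ by group] at h3
  · have hodd : Odd (Nat.card (↥E ⧸ K')) := by
      haveI : Fact (Nat.Prime 2) := ⟨Nat.prime_two⟩
      let O1 : Subgroup ↥E := d.O.subgroupOf E
      have hsurj : Function.Surjective ((QuotientGroup.mk' K').comp O1.subtype) := fun q => by
        obtain ⟨x, rfl⟩ := QuotientGroup.mk'_surjective K' q
        obtain ⟨k, hk, hkx⟩ := ht.ge (Subgroup.mem_top (π x))
        refine ⟨⟨k⁻¹ * x, show ((k⁻¹ * x : ↥E) : G) ∈ d.O from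
          (hker _).1 (by rw [map_mul, map_inv, hkx, inv_mul_cancel])⟩, ?_⟩
        show QuotientGroup.mk' K' (k⁻¹ * x) = _
        rw [map_mul, map_inv, show QuotientGroup.mk' K' k = 1 from (QuotientGroup.eq_one_iff k).2 hk, inv_one, one_mul]
      refine (odd_subgroupOf (H := E) d.O_odd).of_dvd_nat ?_
      exact Subgroup.card_dvd_of_surjective _ hsurj
    haveI : Group.IsPerfect (↥E ⧸ K') :=
      Group.IsPerfect.ofSurjective (f := QuotientGroup.mk' K') (QuotientGroup.mk'_surjective _)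
    haveI := CfsgLib.GW.subsingleton_of_odd hodd
    intro x hx
    exact (QuotientGroup.eq_one_iff (N := K') (⟨x, hx⟩ : ↥E)).1 (Subsingleton.elim _ _)

/-- A subgroup of `D` normalised by it containing all `[v, x]` is everything. -/
theorem Frame.Spec.D_le_of_comm (hd : d.Spec) (hq : 3 < d.q) {v : G} (hv : orderOf v = 2) (hvC : v ∈ d.C)
    (hvz : v ≠ d.z) {K : Subgroup G} (hn : ∀ x ∈ d.D, ∀ k ∈ K, k ∈ d.D → x * k * x⁻¹ ∈ K)
    (hK : ∀ x ∈ d.D, v * x * v⁻¹ * x⁻¹ ∈ K) : d.D ≤ K :=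
  haveI := d.D_perfect
  hd.cover_le_of_comm h hq hv hvC hvz le_rfl (fun x hx => ⟨1, one_mem _, by rwa [mul_one]⟩)
    (fun x hx => d.D_conj hvC hx) hn hK

/-- Some `O_r(C)` is moved by `D` when `[O, D] ≠ 1`. -/
theorem Frame.Spec.exists_prime (hd : d.Spec) (hq : 3 < d.q)
    (hOD : ¬ ∀ x ∈ d.O, ∀ y ∈ d.D, x * y = y * x) :
    ∃ r, r.Prime ∧ r ≠ 2 ∧ ∃ x ∈ OO r d.C, ∃ y ∈ d.D, x * y ≠ y * x := by
  by_contra hno
  push Not at hno
  refine hOD ?_
  have hOn : ∀ {c : G}, c ∈ d.C → cj c d.O = d.O := fun {c} hc => by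
    refine le_antisymm ?_ fun x hx => mem_cj.2 ?_
    · rintro _ ⟨x, hx, rfl⟩
      exact Frame.Spec.O_conj hc hx
    · simpa using Frame.Spec.O_conj (inv_mem hc) hx
  haveI := d.D_perfect
  have hsolO : Group.IsSolvable d.O := CfsgLib.OddOrder.feitThompson d.O_odd
  have hOO : ∀ r, r.Prime → r ≠ 2 → OO r d.O ≤ OO r d.C := fun r hr hr2 =>
    isPGroup_normal_le_OO (OO_isPGroup r _) (OO_le.trans d.O_le) fun c hc x hx => by
      rw [← hOn hc, OO_cj]; exact conj_mem_cj hx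
  have hF : ∀ y ∈ d.D, ∀ x ∈ FF d.O, y * x = x * y := fun y hy => comm_FF_of_OO fun r hr x hx => by
    by_cases hr2 : r = 2
    · subst hr2
      haveI := Fact.mk hr
      have hb : OO 2 d.O = ⊥ := by
        by_contra hne
        exact two_group_even (OO_isPGroup 2 _) hne (d.O_odd.of_dvd_nat (Subgroup.card_dvd_of_le OO_le))
      rw [hb, Subgroup.mem_bot] at hx
      rw [hx, mul_one, one_mul]
    · exact (hno r hr hr2 x (hOO r hr hr2 hx) y hy).symm
  have hE : EE d.O = ⊥ := by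
    rw [EE, show Cfsg.layer d.O = ⊥ from sSup_eq_bot.2 fun K hK => absurd
      (CfsgLib.component_not_le_of_isSolvable hK (N := ⊤) (by
        haveI := hsolO
        infer_instance) le_top) id, Subgroup.map_bot]
  intro o ho
  have hcomm : ∀ y ∈ d.D, o * y * o⁻¹ * y⁻¹ ∈ FF d.O := by
    intro y hy
    have hmem : o * y * o⁻¹ * y⁻¹ ∈ d.O := by
      rw [show o * y * o⁻¹ * y⁻¹ = o * (y * o⁻¹ * y⁻¹) by group]
      exact mul_mem ho (Frame.Spec.O_conj (d.D_le hy) (inv_mem ho))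
    refine self_cent hE hmem fun x hx => ?_
    have c1 : Commute y x := hF y hy x hx
    have c2 : Commute y (o⁻¹ * x * o) := hF y hy _ (by simpa using conj_FF (inv_mem ho) hx)
    calc o * y * o⁻¹ * y⁻¹ * x = o * y * o⁻¹ * (y⁻¹ * x) := by group
      _ = o * y * o⁻¹ * (x * y⁻¹) := by rw [c1.inv_left.eq]
      _ = o * (y * (o⁻¹ * x * o)) * o⁻¹ * y⁻¹ := by group
      _ = o * ((o⁻¹ * x * o) * y) * o⁻¹ * y⁻¹ := by rw [c2.eq]
      _ = x * (o * y * o⁻¹ * y⁻¹) := by group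
  let φ : ↥d.D →* FF d.O := MonoidHom.mk' (fun y => ⟨_, hcomm y y.2⟩) fun a b => Subtype.ext (by
    show o * ((a : G) * b) * o⁻¹ * ((a : G) * b)⁻¹ = o * a * o⁻¹ * (a : G)⁻¹ * (o * b * o⁻¹ * (b : G)⁻¹)
    have hc := hF a a.2 _ (hcomm b b.2)
    calc o * ((a : G) * b) * o⁻¹ * ((a : G) * b)⁻¹ = o * a * o⁻¹ * ((o * b * o⁻¹ * (b : G)⁻¹) * (a : G)⁻¹) := by group
      _ = _ := by rw [← (show Commute (a : G) _ from hc).inv_left.eq]; group)
  haveI : Group.IsPerfect φ.range :=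
    Group.IsPerfect.ofSurjective (f := φ.rangeRestrict) φ.rangeRestrict_surjective
  intro y hy
  haveI : Subsingleton φ.range := CfsgLib.GW.subsingleton_of_odd (d.O_odd.of_dvd_nat
    ((Subgroup.card_subgroup_dvd_card φ.range).trans (Subgroup.card_dvd_of_le FF_le)))
  have h1 : (φ ⟨y, hy⟩) = 1 := congrArg Subtype.val
    (Subsingleton.elim (⟨φ ⟨y, hy⟩, ⟨y, hy⟩, rfl⟩ : φ.range) 1)
  exact mul_inv_eq_iff_eq_mul.1 (mul_inv_eq_one.1 (congrArg Subtype.val h1))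

omit h in
/-- The standing configuration of P5: `C` maximal and `D` moving `P = O_r(C)`. -/
structure Cfg (d : Frame G) (r : ℕ) : Prop where
  hyp : Hyp G
  spec : d.Spec
  lt : 3 < d.q
  coatom : IsCoatom d.C
  prime : r.Prime
  odd : r ≠ 2
  moves : ∃ x ∈ OO r d.C, ∃ y ∈ d.D, x * y ≠ y * x

omit h

variable {r : ℕ} (K : Cfg d r) {v : G}
include K

/-- Every further involution of `C` moves `P`. -/
theorem Cfg.invol_moves (hv : orderOf v = 2) (hvC : v ∈ d.C) (hvz : v ≠ d.z) :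
    ∃ y ∈ OO r d.C, v * y ≠ y * v := by
  by_contra hno
  push Not at hno
  obtain ⟨x, hx, y, hy, hne⟩ := K.moves
  have hle := K.spec.D_le_of_comm K.hyp K.lt hv hvC hvz (K := Subgroup.centralizer (OO r d.C : Set G))
    (fun a ha k hk _ => Subgroup.mem_centralizer_iff.2 fun b hb => ?_)
    (fun a ha => Subgroup.mem_centralizer_iff.2 fun b hb => ?_)
  · exact hne (Subgroup.mem_centralizer_iff.1 (hle hy) x hx)
  · have h1 : Commute (a⁻¹ * b * a) k := Subgroup.mem_centralizer_iff.1 hk _ (by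
      simpa using conj_OO (inv_mem (d.D_le ha)) hb)
    calc b * (a * k * a⁻¹) = a * ((a⁻¹ * b * a) * k) * a⁻¹ := by group
      _ = a * (k * (a⁻¹ * b * a)) * a⁻¹ := by rw [h1.eq]
      _ = a * k * a⁻¹ * b := by group
  · have h1 : Commute v b := hno b hb
    have h2 : Commute v (a⁻¹ * b * a) := hno _ (by simpa using conj_OO (inv_mem (d.D_le ha)) hb)
    have e1 : v⁻¹ * (a⁻¹ * b * a) * v = a⁻¹ * b * a := by rw [mul_assoc, ← h2.eq, inv_mul_cancel_left]
    have e2 : v * b * v⁻¹ = b := by rw [h1.eq, mul_inv_cancel_right]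
    refine eq_mul_inv_iff_mul_eq.1 ?_ |>.symm
    calc v * a * v⁻¹ * a⁻¹ = v * a * v⁻¹ * a⁻¹ * (b * b⁻¹) := by group
      _ = v * (a * (v⁻¹ * (a⁻¹ * b * a) * v) * a⁻¹) * v⁻¹ * (v * a * v⁻¹ * a⁻¹) * b⁻¹ := by group
      _ = v * b * v⁻¹ * (v * a * v⁻¹ * a⁻¹) * b⁻¹ := by rw [e1]; group
      _ = b * (v * a * v⁻¹ * a⁻¹) * b⁻¹ := by rw [e2]

/-- An involution inverting `P` would be scalar on it, so each fixes something. -/
theorem Cfg.invol_fixes (hv : orderOf v = 2) (hvC : v ∈ d.C) (hvz : v ≠ d.z) :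
    ∃ y ∈ OO r d.C, y ≠ 1 ∧ v * y = y * v := by
  by_contra hno
  push Not at hno
  have hinv := inverts_of_free (OO_odd K.prime K.odd d.C) hv (mem_normalizer_OO hvC)
    fun y hy e => by_contra fun h1 => hno y hy h1 e
  obtain ⟨x, hx, y, hy, hne⟩ := K.moves
  have hle := K.spec.D_le_of_comm K.hyp K.lt hv hvC hvz (K := Subgroup.centralizer (OO r d.C : Set G))
    (fun a ha k hk _ => Subgroup.mem_centralizer_iff.2 fun b hb => ?_)
    (fun a ha => Subgroup.mem_centralizer_iff.2 fun b hb => ?_)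
  · exact hne (Subgroup.mem_centralizer_iff.1 (hle hy) x hx)
  · have h1 : Commute (a⁻¹ * b * a) k := Subgroup.mem_centralizer_iff.1 hk _ (by
      simpa using conj_OO (inv_mem (d.D_le ha)) hb)
    calc b * (a * k * a⁻¹) = a * ((a⁻¹ * b * a) * k) * a⁻¹ := by group
      _ = a * (k * (a⁻¹ * b * a)) * a⁻¹ := by rw [h1.eq]
      _ = a * k * a⁻¹ * b := by group
  · have hb1 : a⁻¹ * b * a ∈ OO r d.C := by simpa using conj_OO (inv_mem (d.D_le ha)) hb
    have e1 : v⁻¹ * (a⁻¹ * b * a) * v = (a⁻¹ * b * a)⁻¹ := by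
      have := hinv _ hb1
      rwa [invol_inv hv] at this ⊢
    have e2 : v * b⁻¹ * v⁻¹ = b := by rw [hinv _ (inv_mem hb), inv_inv]
    refine eq_mul_inv_iff_mul_eq.1 ?_ |>.symm
    calc v * a * v⁻¹ * a⁻¹ = v * a * v⁻¹ * a⁻¹ * (b * b⁻¹) := by group
      _ = v * (a * (v⁻¹ * (a⁻¹ * b * a) * v) * a⁻¹) * v⁻¹ * (v * a * v⁻¹ * a⁻¹) * b⁻¹ := by group
      _ = v * b⁻¹ * v⁻¹ * (v * a * v⁻¹ * a⁻¹) * b⁻¹ := by rw [e1]; group
      _ = b * (v * a * v⁻¹ * a⁻¹) * b⁻¹ := by rw [e2]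

/-- In `C(v)` the central involution moves `O_r(C(v))`. -/
theorem Cfg.z_moves (hv : orderOf v = 2) (hvC : v ∈ d.C) (hvz : v ≠ d.z) :
    ∃ y ∈ OO r (Subgroup.centralizer ({v} : Set G)), d.z * y ≠ y * d.z := by
  obtain ⟨g, hg⟩ := K.hyp.exists_conj d.z v K.spec.zord hv
  have hzv : d.z * v = v * d.z := (Frame.Spec.z_central hvC).symm
  have e : g * (g⁻¹ * d.z * g) * g⁻¹ = d.z := by group
  obtain ⟨y, hy, hne⟩ := K.invol_moves (v := g⁻¹ * d.z * g)
    (by simpa using (orderOf_cj g⁻¹ d.z).trans K.spec.zord)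
    (mem_cent.2 (by
      have h1 := congrArg (fun x => g⁻¹ * x * g) hzv
      rw [← hg] at h1
      simpa [mul_assoc] using h1))
    (fun e1 => hvz (by rw [← hg, ← e1, e, e1]))
  refine ⟨g * y * g⁻¹, ?_, fun e1 => hne ?_⟩
  · rw [← hg, centralizer_cj, OO_cj]
    exact conj_mem_cj hy
  · calc g⁻¹ * d.z * g * y = g⁻¹ * (d.z * (g * y * g⁻¹)) * g := by group
      _ = g⁻¹ * (g * y * g⁻¹ * d.z) * g := by rw [e1]
      _ = y * (g⁻¹ * d.z * g) := by group

end CfsgLib.RankTwoModel
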