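import Cfsg.Agent.Lib.RankTwoModel.CMax.Step3

/-!
**P5: a maximal involution centraliser has `[O, D] = 1`.**

Blueprint: `blueprint/RankTwo_L5.md`.
-/

set_option autoImplicit false
set_option linter.unusedSectionVars false

namespace CfsgLib.RankTwoModel

open Cfsg

universe u

variable {G : Type u} [Group G] [Finite G]

theorem c_max_false (h : Hyp G) (d : Frame G) (hd : d.Spec) (hq : 3 < d.q) (hC : IsCoatom d.C)
    (hOD : ¬ ∀ x ∈ d.O, ∀ y ∈ d.D, x * y = y * x) : False := by
  obtain ⟨r, hr, hr2, hmv⟩ := hd.exists_prime h hq hOD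
  have K : Cfg d r := ⟨h, hd, hq, hC, hr, hr2, hmv⟩
  obtain ⟨v, H, L, S, hne⟩ := K.step2
  exact S.false K hne

end CfsgLib.RankTwoModel
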