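import Cfsg.Agent.Lib.RankTwoModel.Comps
import Cfsg.Agent.Lib.GW.Model.NoField
import Cfsg.Agent.Lib.GW.Model.Seven

/-!
Two facts about a dihedral component: odd abelian subgroups of an involution centraliser are cyclic modulo the centre,
and a four group with a non-trivial reflected element has no odd centraliser in the automorphism group.

Blueprint: `blueprint/RankTwo_L5.md` (P5, D1 and D3).
-/

set_option autoImplicit false
set_option linter.unusedSectionVars false
set_option linter.style.haveILetI false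

namespace CfsgLib.RankTwoModel

open Cfsg CfsgLib.BG CfsgLib.GW CfsgLib.BenderMax

universe u

variable {G : Type u} [Group G] [Finite G]

theorem quot_sq {L : Subgroup G} {z : G} (hz : orderOf z = 2) (hzL : z ∈ L)
    (hodd : Odd (Nat.card (Subgroup.center L))) :
    QuotientGroup.mk' (Subgroup.center L) ⟨z, hzL⟩ * QuotientGroup.mk' (Subgroup.center L) ⟨z, hzL⟩ = 1 ∧
      QuotientGroup.mk' (Subgroup.center L) ⟨z, hzL⟩ ≠ 1 := by
  refine ⟨?_, fun e => ?_⟩
  · rw [← map_mul, show (⟨z, hzL⟩ : L) * ⟨z, hzL⟩ = 1 from Subtype.ext (invol_mul_self hz), map_one]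
  · exact not_mem_of_odd hodd ((Subgroup.orderOf_mk z hzL).trans hz) ((QuotientGroup.eq_one_iff _).1 e)

/-- **D1.** -/
theorem cyclic_of_cent {L : Subgroup G} (hodd : Odd (Nat.card (Subgroup.center L)))
    (hm : GWModel (L ⧸ Subgroup.center L)) {z : G} (hz : orderOf z = 2) (hzL : z ∈ L) {S : Subgroup G} (hSL : S ≤ L)
    (hSo : Odd (Nat.card S)) (hSc : ∀ a ∈ S, ∀ b ∈ S, a * b = b * a) (hSz : ∀ a ∈ S, a * z = z * a)
    (hcap : ∀ a : L, (a : G) ∈ S → a ∈ Subgroup.center L → a = 1) : IsCyclic S := by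
  let f : S →* L ⧸ Subgroup.center L := (QuotientGroup.mk' _).comp (Subgroup.inclusion hSL)
  have hf : Function.Injective f := (injective_iff_map_eq_one f).2 fun a ha =>
    Subtype.ext (congrArg Subtype.val (hcap ⟨a, hSL a.2⟩ a.2 ((QuotientGroup.eq_one_iff _).1 ha)) :)
  obtain ⟨hz2, hz1⟩ := quot_sq hz hzL hodd
  set zb := QuotientGroup.mk' (Subgroup.center L) ⟨z, hzL⟩
  have hcz : ∀ a, f a * zb = zb * f a := fun a => by
    have e : Subgroup.inclusion hSL a * ⟨z, hzL⟩ = ⟨z, hzL⟩ * Subgroup.inclusion hSL a := Subtype.ext (hSz a a.2)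
    have := congrArg (QuotientGroup.mk' (Subgroup.center L)) e
    rwa [map_mul, map_mul] at this
  have hfo : ∀ a, Odd (orderOf (f a)) := fun a => by
    rw [orderOf_injective f hf]
    exact hSo.of_dvd_nat (orderOf_dvd_natCard a)
  rcases hm with ⟨F, _, _, hF, h3, ⟨e⟩⟩ | ⟨⟨e⟩⟩
  · by_cases hex : ∃ a : S, a ≠ 1
    · obtain ⟨a, ha⟩ := hex
      obtain ⟨hcyc, -⟩ := CfsgLib.GW.Model.psl_centralizer_odd (F := F) hF h3
        (x := e zb) (z := e (f a)) (by rw [← map_mul, hz2, map_one])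
        (fun e1 => hz1 ((map_eq_one_iff _ e.injective).1 e1))
        (fun e1 => ha (hf (((map_eq_one_iff _ e.injective).1 e1).trans (map_one f).symm)))
        (by rw [MulEquiv.orderOf_eq]; exact hfo a) (by rw [← map_mul, ← map_mul, hcz])
      haveI := hcyc
      exact isCyclic_of_injective ((e.toMonoidHom.comp f).codRestrict _ fun b =>
          Subgroup.mem_centralizer_singleton_iff.2 (by
            show e (f b) * e (f a) = e (f a) * e (f b)
            rw [← map_mul, ← map_mul, ← map_mul, ← map_mul]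
            exact congrArg e (congrArg f (Subtype.ext (hSc b b.2 a a.2)))))
        fun x y hxy => hf (e.injective (congrArg Subtype.val hxy))
    · push Not at hex
      haveI : Subsingleton S := ⟨fun x y => (hex x).trans (hex y).symm⟩
      infer_instance
  · obtain ⟨c, -, -, -, -, -, -, -, hall⟩ := CfsgLib.GW.Model.seven_cent (a := e zb) (by rw [← map_mul, hz2, map_one])
      (fun e1 => hz1 ((map_eq_one_iff _ e.injective).1 e1))
    refine isCyclic_of_injective ((e.toMonoidHom.comp f).codRestrict (Subgroup.zpowers c) fun b => ?_)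
      fun x y hxy => hf (e.injective (congrArg Subtype.val hxy))
    rcases hall (e (f b)) (by rw [← map_mul, ← map_mul, hcz]) (by rw [MulEquiv.orderOf_eq]; exact hfo b) with
      e1 | e1 | e1 <;> show e (f b) ∈ _ <;> rw [e1]
    exacts [one_mem _, Subgroup.mem_zpowers _, inv_mem (Subgroup.mem_zpowers _)]

open CfsgLib.DihedralFusion in
/-- **D3.** -/
theorem Comp.centralizes {H L : Subgroup G} (hc : Comp H L) (hm : GWModel (L ⧸ Subgroup.center L)) {z v x : G}
    (hz : orderOf z = 2) (hv : orderOf v = 2) (hzv : z * v = v * z) (hvz : v ≠ z) (hzL : z ∈ L) (hvL : v ∈ L)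
    (hxL : x ∈ L) (hxz : x * z = z * x) (hxo : Odd (orderOf x)) (hxv : v * x * v⁻¹ = x⁻¹)
    (hxc : ∃ l ∈ L, l * x ≠ x * l) {r : ℕ} (hr : r.Prime) (hr2 : r ≠ 2) {R : Subgroup G} (hR : IsPGroup r R)
    (hRz : R ≤ Subgroup.centralizer ({z} : Set G)) (hRn : ∀ c ∈ L, c * z = z * c → ∀ a ∈ R, c * a * c⁻¹ ∈ R)
    {y : G} (hyR : y ∈ R) (hyH : y ∈ H) (hyv : y * v = v * y) : ∀ l ∈ L, y * l = l * y := by
  haveI := hc.perfect
  have hyn : Subgroup.zpowers y ≤ Subgroup.normalizer (L : Set G) :=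
    zpowers_le_normalizer fun l hl => hc.norm y hyH l hl
  set K : Subgroup G := L ⊔ Subgroup.zpowers y with hKdef
  have hLK : L ≤ K := le_sup_left
  have hyK : y ∈ K := Subgroup.mem_sup_right (Subgroup.mem_zpowers y)
  have hKH : K ≤ H := sup_le hc.le (Subgroup.zpowers_le.2 hyH)
  have hKdec : ∀ k ∈ K, ∃ l ∈ L, ∃ i : ℤ, k = l * y ^ i := fun k hk => by
    rw [hKdef, ← SetLike.mem_coe, Subgroup.coe_mul_of_right_le_normalizer_left L (Subgroup.zpowers y) hyn] at hk
    obtain ⟨l, hl, _, ⟨i, rfl⟩, rfl⟩ := hk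
    exact ⟨l, hl, i, rfl⟩
  set L' : Subgroup K := L.subgroupOf K with hL'
  haveI : L'.Normal := ⟨fun a ha g => hc.norm g (hKH g.2) a ha⟩
  let eL : L' ≃* L := Subgroup.subgroupOfEquivOfLe hLK
  haveI : Group.IsPerfect L' := Group.IsPerfect.ofSurjective (f := eL.symm.toMonoidHom) eL.symm.surjective
  have hmapc : (Subgroup.center L).map eL.symm.toMonoidHom = Subgroup.center L' := by
    ext a
    rw [Subgroup.mem_map_equiv, Subgroup.mem_center_iff, Subgroup.mem_center_iff]
    constructor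
    · intro ha b
      have := congrArg eL.symm (ha (eL b))
      simpa [map_mul] using this
    · intro ha b
      have := congrArg eL (ha (eL.symm b))
      simpa [map_mul] using this
  let eQ : (L ⧸ Subgroup.center L) ≃* L' ⧸ Subgroup.center L' :=
    QuotientGroup.congr (Subgroup.center L) (Subgroup.center L') eL.symm hmapc
  have hW : Odd (Nat.card (Subgroup.centralizer (L' : Set K))) := by
    refine hc.W_odd.of_dvd_nat ?_
    rw [← Subgroup.card_map_of_injective K.subtype_injective]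
    refine Subgroup.card_dvd_of_le ?_
    rintro _ ⟨a, ha, rfl⟩
    exact ⟨hKH a.2, Subgroup.mem_centralizer_iff.2 fun l hl => congrArg Subtype.val
      (Subgroup.mem_centralizer_iff.1 ha ⟨l, hLK hl⟩ hl)⟩
  have hnW : ∀ t : G, ∀ ht : t ∈ L, orderOf t = 2 → (⟨t, hLK ht⟩ : K) ∉ Subgroup.centralizer (L' : Set K) := by
    intro t ht ht2 hmem
    refine not_mem_of_odd hW ?_ hmem
    rw [Subgroup.orderOf_mk]; exact ht2
  have hvz2 := orderOf_mul_invol hz hv hzv hvz
  set zK : K := ⟨z, hLK hzL⟩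
  set vK : K := ⟨v, hLK hvL⟩
  set xK : K := ⟨x, hLK hxL⟩
  set yK : K := ⟨y, hyK⟩
  have hzv' : zK * vK = vK * zK := Subtype.ext hzv
  have hyz' : yK * zK = zK * yK := Subtype.ext (mem_cent.1 (hRz hyR))
  have hyv' : yK * vK = vK * yK := Subtype.ext hyv
  have hyo : Odd (orderOf yK) := by
    rw [Subgroup.orderOf_mk]
    haveI := Fact.mk hr
    obtain ⟨k, hk⟩ := IsPGroup.iff_orderOf.1 hR ⟨y, hyR⟩
    rw [Subgroup.orderOf_mk] at hk
    rw [hk]; exact (hr.odd_of_ne_two hr2).pow
  suffices hmem : yK ∈ Subgroup.centralizer (L' : Set K) from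
    fun l hl => (congrArg Subtype.val (Subgroup.mem_centralizer_iff.1 hmem ⟨l, hLK hl⟩ hl)).symm
  have hone : ∀ {A : Type} [Group A] (g : K →* A), g.ker = Subgroup.centralizer (L' : Set K) →
      (g zK * g zK = 1 ∧ g zK ≠ 1) ∧ (g vK * g vK = 1 ∧ g vK ≠ 1) ∧ g vK ≠ g zK := by
    intro A _ g hg
    refine ⟨⟨?_, fun e => hnW z hzL hz (hg ▸ MonoidHom.mem_ker.2 e)⟩,
      ⟨?_, fun e => hnW v hvL hv (hg ▸ MonoidHom.mem_ker.2 e)⟩, fun e => ?_⟩
    · rw [← map_mul, show zK * zK = 1 from Subtype.ext (invol_mul_self hz), map_one]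
    · rw [← map_mul, show vK * vK = 1 from Subtype.ext (invol_mul_self hv), map_one]
    · refine hnW (z * v) (mul_mem hzL hvL) hvz2 ?_
      rw [← hg, MonoidHom.mem_ker]
      show g (zK * vK) = 1
      rw [map_mul, e, ← map_mul, show zK * zK = 1 from Subtype.ext (invol_mul_self hz), map_one]
  rcases GWModel.of_equiv eQ.symm hm with ⟨F, iF, iFt, hF, h3, ⟨e⟩⟩ | ⟨⟨e⟩⟩
  · obtain ⟨p, hp⟩ := CharP.exists F
    haveI := hp
    haveI : Fact p.Prime := ⟨CharP.char_is_prime F p⟩
    have hker := action_ker e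
    set φ₀ := (CfsgLib.PSL2.fieldPart p).comp (action e) with hφ₀
    have hrange : φ₀.range ≤ Subgroup.zpowers (φ₀ yK) := by
      rintro _ ⟨k, rfl⟩
      obtain ⟨l, hl, i, hk⟩ := hKdec k k.2
      have hk' : k = (⟨l, hLK hl⟩ : K) * yK ^ i := Subtype.ext (by simpa [yK] using hk)
      obtain ⟨m, hm'⟩ := (action_map e).le ⟨(⟨l, hLK hl⟩ : K), hl, rfl⟩
      rw [hk', map_mul, map_zpow, show φ₀ (⟨l, hLK hl⟩ : K) = 1 by
        rw [hφ₀, MonoidHom.comp_apply, ← hm', fieldPart_conj], one_mul]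
      exact ⟨i, rfl⟩
    let fr : PSLFrame K L' :=
      { F := F, p := p, odd := hF, three_lt := h3, ψ := action e, ker_eq := hker, map_L := action_map e
        field_odd := hyo.of_dvd_nat ((Subgroup.card_dvd_of_le hrange).trans (by
          rw [Nat.card_zpowers]; exact orderOf_map_dvd φ₀ yK)) }
    have hRK : ∀ a ∈ R.subgroupOf K, a * zK = zK * a := fun a ha => Subtype.ext (mem_cent.1 (hRz ha))
    have hyd : yK ∈ fr.diag := fr.mem_diag.2 (fr.no_field hW (t := zK) (Subtype.ext (invol_mul_self hz))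
      (hnW z hzL hz) hr hr2 (R := R.subgroupOf K) (hR.comap_of_injective _ K.subtype_injective)
      (fun a ha => Subgroup.mem_centralizer_singleton_iff.2 (hRK a ha))
      (fun c hc' => Subgroup.mem_normalizer_fintype fun a ha => by
        obtain ⟨l, hl, i, hk⟩ := hKdec c c.2
        have hcz : (c : G) * z = z * c := congrArg Subtype.val (Subgroup.mem_centralizer_singleton_iff.1 hc')
        have hiz : Commute (y ^ i) z := (show Commute y z from mem_cent.1 (hRz hyR)).zpow_left i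
        have hlz : l * z = z * l := by
          rw [show l = (c : G) * (y ^ i)⁻¹ by rw [hk, mul_inv_cancel_right]]
          exact ((show Commute (c : G) z from hcz).mul_left hiz.inv_left).eq
        show (c : G) * (a : G) * (c : G)⁻¹ ∈ R
        rw [hk, show l * y ^ i * (a : G) * (l * y ^ i)⁻¹ = l * (y ^ i * a * (y ^ i)⁻¹) * l⁻¹ by group]
        exact hRn l hl hlz _ (mul_mem (mul_mem (zpow_mem hyR i) ha) (inv_mem (zpow_mem hyR i)))) yK hyR)
    have hzd : zK ∈ fr.diag := fr.mem_diag_of_sq (Subtype.ext (invol_mul_self hz))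
    have hvd : vK ∈ fr.diag := fr.mem_diag_of_sq (Subtype.ext (invol_mul_self hv))
    set τ := fr.pgl ⟨zK, hzd⟩
    set σ := fr.pgl ⟨vK, hvd⟩
    set η := fr.pgl ⟨yK, hyd⟩
    obtain ⟨⟨hz2, hz1⟩, ⟨hv2, hv1⟩, hne⟩ := hone fr.ψ hker
    have hτ1 : τ ≠ 1 := fun e1 => hnW z hzL hz ((fr.pgl_eq_one_iff _).1 e1)
    have hσ1 : σ ≠ 1 := fun e1 => hnW v hvL hv ((fr.pgl_eq_one_iff _).1 e1)
    have hτσne : σ ≠ τ := fun e1 => hne (by rw [← fr.act_pgl ⟨vK, hvd⟩, ← fr.act_pgl ⟨zK, hzd⟩]; exact congrArg _ e1)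
    have hτ2 : τ * τ = 1 := by
      rw [← map_mul, show (⟨zK, hzd⟩ : fr.diag) * ⟨zK, hzd⟩ = 1 from
        Subtype.ext (Subtype.ext (invol_mul_self hz)), map_one]
    have hσ2 : σ * σ = 1 := by
      rw [← map_mul, show (⟨vK, hvd⟩ : fr.diag) * ⟨vK, hvd⟩ = 1 from
        Subtype.ext (Subtype.ext (invol_mul_self hv)), map_one]
    have hcomm : τ * σ = σ * τ := by
      rw [← map_mul, ← map_mul]; exact congrArg _ (Subtype.ext hzv')
    haveI : Finite (Matrix.ProjGenLinGroup (Fin 2) fr.F) := Finite.of_surjective _ Matrix.ProjGenLinGroup.mk_surjective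
    have hoτ : orderOf τ = 2 := orderOf_eq_prime (by rw [sq, hτ2]) hτ1
    have hoσ : orderOf σ = 2 := orderOf_eq_prime (by rw [sq, hσ2]) hσ1
    have hη : η = 1 := Model.klein_odd_trivial fr.odd fr.three_lt (isKleinFour_four hoτ hoσ hcomm hτσne) (x := η)
      (fun k hk => by
        rcases (mem_four hoτ hoσ hcomm).1 hk with e1 | e1 | e1 | e1 <;> subst e1
        · rw [one_mul, mul_one]
        · rw [← map_mul, ← map_mul]; exact congrArg _ (Subtype.ext hyz')
        · rw [← map_mul, ← map_mul]; exact congrArg _ (Subtype.ext hyv')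
        · rw [← map_mul, ← map_mul, ← map_mul]
          refine congrArg _ (Subtype.ext ?_)
          show yK * (zK * vK) = zK * vK * yK
          rw [← mul_assoc, hyz', mul_assoc, hyv', mul_assoc])
      ((show Odd (orderOf (⟨yK, hyd⟩ : fr.diag)) by rw [Subgroup.orderOf_mk]; exact hyo).of_dvd_nat
        (orderOf_map_dvd _ _))
    exact (fr.pgl_eq_one_iff _).1 hη
  · let θ : K →* Equiv.Perm (Fin 7) := autSeven.toMonoidHom.comp (action e)
    have hθker : θ.ker = Subgroup.centralizer (L' : Set K) := by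
      rw [← action_ker e]
      ext a
      simp only [θ, MonoidHom.mem_ker, MonoidHom.comp_apply, MulEquiv.coe_toMonoidHom, EmbeddingLike.map_eq_one_iff]
    have hLA : ∀ a : K, a ∈ L' → θ a ∈ alternatingGroup (Fin 7) := fun a ha => by
      obtain ⟨m, hm'⟩ := (action_map e).le ⟨a, ha, rfl⟩
      show autSeven (action e a) ∈ _
      rw [← hm', autSeven_conj]
      exact m.2
    have hodd' : ∀ s : Equiv.Perm (Fin 7), Odd (orderOf s) → s ∈ alternatingGroup (Fin 7) := fun s hs => by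
      rw [Equiv.Perm.mem_alternatingGroup]
      rcases Int.units_eq_one_or (Equiv.Perm.sign s) with h1 | h1
      · exact h1
      · have := orderOf_map_dvd Equiv.Perm.sign s
        rw [h1] at this
        have h2 : orderOf (-1 : ℤˣ) = 2 := orderOf_eq_prime (by decide) (by decide)
        rw [h2] at this
        exact absurd (hs.of_dvd_nat this) (by decide)
    obtain ⟨⟨hz2, hz1⟩, ⟨hv2, hv1⟩, -⟩ := hone θ hθker
    have hy1 : θ yK = 1 := by
      have hx1 : θ xK ≠ 1 := fun e1 => by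
        obtain ⟨l, hl, hne⟩ := hxc
        exact hne (congrArg Subtype.val
          (Subgroup.mem_centralizer_iff.1 (hθker ▸ MonoidHom.mem_ker.2 e1 :) ⟨l, hLK hl⟩ hl))
      have hxinv : vK * xK * vK⁻¹ = xK⁻¹ := Subtype.ext hxv
      have hxz' : xK * zK = zK * xK := Subtype.ext hxz
      have hyoθ : Odd (orderOf (θ yK)) := hyo.of_dvd_nat (orderOf_map_dvd θ yK)
      have hxoθ : Odd (orderOf (θ xK)) :=
        (show Odd (orderOf xK) by rw [Subgroup.orderOf_mk]; exact hxo).of_dvd_nat (orderOf_map_dvd θ xK)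
      exact congrArg Subtype.val (CfsgLib.GW.Model.seven_inverted
        (a := ⟨θ zK, hLA _ hzL⟩) (b := ⟨θ vK, hLA _ hvL⟩) (x := ⟨θ xK, hLA _ hxL⟩) (y := ⟨θ yK, hodd' _ hyoθ⟩)
        (Subtype.ext hz2) (fun e1 => hz1 (congrArg Subtype.val e1))
        (Subtype.ext (by show θ xK * θ zK = θ zK * θ xK; rw [← map_mul, hxz', map_mul]))
        (by rw [← Subgroup.orderOf_coe]; exact hxoθ)
        (Subtype.ext (by show θ vK * θ xK * (θ vK)⁻¹ = (θ xK)⁻¹; rw [← map_inv, ← map_mul, ← map_mul, hxinv, map_inv]))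
        (fun e1 => hx1 (congrArg Subtype.val e1))
        (Subtype.ext (by show θ yK * θ zK = θ zK * θ yK; rw [← map_mul, hyz', map_mul]))
        (Subtype.ext (by show θ yK * θ vK = θ vK * θ yK; rw [← map_mul, hyv', map_mul]))
        (by rw [← Subgroup.orderOf_coe]; exact hyoθ))
    exact hθker ▸ MonoidHom.mem_ker.2 hy1

end CfsgLib.RankTwoModel
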