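import Cfsg.Agent.Lib.RankTwoModel.CMax.Basic
import Cfsg.Agent.Lib.RankTwoModel.Scalar
import Cfsg.Agent.Lib.ZStar.Main

/-!
Actions of `C` in which the involution `z` is trivial: `D` acts trivially on planes reflected by an involution.

Blueprint: `blueprint/RankTwo_L5.md` (P5, Step 3).
-/

set_option autoImplicit false
set_option linter.unusedSectionVars false
set_option linter.style.haveILetI false

namespace CfsgLib.RankTwoModel

open Cfsg CfsgLib.BG CfsgLib.GW CfsgLib.BenderMax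

universe u w

/-- A perfect subgroup whose image lies in a subgroup with a trivial perfect part is killed. -/
theorem map_trivial_of_odd {Γ : Type u} [Group Γ] [Finite Γ] {A : Type w} [Group A] [Finite A] (φ : Γ →* A)
    {P : Subgroup Γ} [Group.IsPerfect P] {B : Subgroup A} (hB : Odd (Nat.card B)) (h : ∀ x ∈ P, φ x ∈ B) :
    ∀ x ∈ P, φ x = 1 := by
  set g : P →* A := φ.comp P.subtype
  haveI : Group.IsPerfect g.range :=
    Group.IsPerfect.ofSurjective (f := g.rangeRestrict) g.rangeRestrict_surjective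
  haveI : Subsingleton g.range := CfsgLib.GW.subsingleton_of_odd (hB.of_dvd_nat (Subgroup.card_dvd_of_le (by
    rintro _ ⟨x, rfl⟩
    exact h x x.2)))
  intro x hx
  exact congrArg Subtype.val (Subsingleton.elim (⟨g ⟨x, hx⟩, ⟨_, rfl⟩⟩ : g.range) 1)

theorem map_trivial_of_comm {Γ : Type u} [Group Γ] {A : Type w} [Group A] (φ : Γ →* A) {P : Subgroup Γ}
    [Group.IsPerfect P] (h : ∀ x ∈ P, ∀ y ∈ P, φ x * φ y = φ y * φ x) : ∀ x ∈ P, φ x = 1 := by
  intro x hx
  have hle : commutator P ≤ (φ.comp P.subtype).ker := by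
    rw [commutator_def, Subgroup.commutator_le]
    intro a _ b _
    rw [MonoidHom.mem_ker, map_commutatorElement]
    exact commutatorElement_eq_one_iff_mul_comm.2 (h a a.2 b b.2)
  exact hle (show (⟨x, hx⟩ : P) ∈ commutator P by rw [Group.IsPerfect.commutator_eq_top]; trivial)

variable {G : Type u} [Group G] [Finite G] {d : Frame G}

/-- The derived subgroup inside the centraliser. -/
noncomputable def Frame.Dc (d : Frame G) : Subgroup ↥d.C := d.D.subgroupOf d.C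

theorem Frame.Dc_perfect (d : Frame G) : Group.IsPerfect d.Dc := by
  haveI := d.D_perfect
  exact Group.IsPerfect.ofSurjective (f := (Subgroup.subgroupOfEquivOfLe d.D_le).symm.toMonoidHom)
    (Subgroup.subgroupOfEquivOfLe d.D_le).symm.surjective

instance Frame.Dc_normal (d : Frame G) : d.Dc.Normal := ⟨fun _ hx c => d.D_conj c.2 hx⟩

/-- **`D` acts trivially if commuting images of conjugates of `v` have central product.** -/
theorem Frame.Spec.hom_trivial (h : Hyp G) (hd : d.Spec) (hq : 3 < d.q) {v : G} (hv : orderOf v = 2)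
    (hvC : v ∈ d.C) (hvz : v ≠ d.z) {A : Type w} [Group A] [Finite A] (φ : ↥d.C →* A)
    (hφz : φ ⟨d.z, Frame.Spec.z_mem_C⟩ = 1)
    (hpair : ∀ x : ↥d.C, (x : G) ∈ d.D → Commute (φ ⟨v, hvC⟩) (φ (x * ⟨v, hvC⟩ * x⁻¹)) →
      φ (x * ⟨v, hvC⟩ * x⁻¹) ≠ φ ⟨v, hvC⟩ →
      ∀ y, Commute (φ (⟨v, hvC⟩ * (x * ⟨v, hvC⟩ * x⁻¹))) (φ y)) :
    ∀ x : ↥d.C, (x : G) ∈ d.D → φ x = 1 := by
  haveI : Fact (Nat.Prime 2) := ⟨Nat.prime_two⟩
  haveI := d.Dc_perfect
  set vC : ↥d.C := ⟨v, hvC⟩ with hvCdef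
  have hvv : vC * vC = 1 := Subtype.ext (invol_mul_self hv)
  have hvi : vC⁻¹ = vC := inv_eq_of_mul_eq_one_right hvv
  by_cases hcase : ∃ x : ↥d.C, (x : G) ∈ d.D ∧ Commute (φ vC) (φ (x * vC * x⁻¹)) ∧ φ (x * vC * x⁻¹) ≠ φ vC
  · obtain ⟨x, hx, hcm, hne⟩ := hcase
    exfalso
    have hcen := hpair x hx hcm hne
    set w : ↥d.C := vC * (x * vC * x⁻¹) with hw
    set g := φ w with hg
    have hwD : w ∈ d.Dc := by
      show (w : G) ∈ d.D
      rw [hw]
      show v * ((x : G) * v * (x : G)⁻¹) ∈ d.D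
      rw [show v * ((x : G) * v * (x : G)⁻¹) = (v * (x : G) * v⁻¹) * (v * v) * (x : G)⁻¹ by group, invol_mul_self hv,
        mul_one]
      exact mul_mem (d.D_conj hvC hx) (inv_mem hx)
    have hg1 : g ≠ 1 := fun e => hne (by
      rw [hg, hw, map_mul] at e
      rw [← inv_eq_of_mul_eq_one_right e, ← map_inv, hvi])
    have hg2 : g * g = 1 := by
      rw [hg, hw, map_mul, mul_assoc, ← mul_assoc (φ (x * vC * x⁻¹)), ← hcm.eq, mul_assoc, ← map_mul,
        ← map_mul, show x * vC * x⁻¹ * (x * vC * x⁻¹) = x * (vC * vC) * x⁻¹ by group, hvv, mul_one, mul_inv_cancel,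
        mul_one, ← map_mul, hvv, map_one]
    -- the two-part of `w`
    obtain ⟨k, m, hm, hkm⟩ := Nat.exists_eq_two_pow_mul_odd (orderOf_pos w).ne'
    have hord : orderOf (w ^ m) = 2 ^ k := by
      rw [orderOf_pow_of_dvd hm.pos.ne' (hkm ▸ dvd_mul_left m _), hkm, Nat.mul_div_cancel _ hm.pos]
    have hgm : φ (w ^ m) = g := by
      obtain ⟨j, hj⟩ := hm
      rw [map_pow, ← hg, hj, pow_succ, pow_mul, sq, hg2, one_pow, one_mul]
    obtain ⟨π, hπ, hker⟩ := hd.exists_proj hq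
    let K1 : Subgroup ↥d.D := (Subgroup.zpowers g).comap (φ.comp (Subgroup.inclusion d.D_le))
    haveI hK1n : K1.Normal := ⟨fun a ha b => by
      obtain ⟨i, hi⟩ := Subgroup.mem_zpowers_iff.1 ha
      refine Subgroup.mem_zpowers_iff.2 ⟨i, ?_⟩
      have hi' : g ^ i = φ (Subgroup.inclusion d.D_le a) := hi
      show g ^ i = φ (Subgroup.inclusion d.D_le (b * a * b⁻¹))
      rw [map_mul, map_mul, map_inv, map_mul, map_mul, map_inv, ← hi',
        ← ((hcen (Subgroup.inclusion d.D_le b)).zpow_left i).eq, mul_inv_cancel_right]⟩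
    haveI := hK1n.map π hπ
    have hwm : (⟨((w ^ m : ↥d.C) : G), (pow_mem hwD m : w ^ m ∈ d.Dc)⟩ : ↥d.D) ∈ K1 := by
      show φ (w ^ m) ∈ Subgroup.zpowers g
      rw [hgm]
      exact Subgroup.mem_zpowers g
    rcases sl2_normal hd hq (K1.map π) with hc | ht
    · -- `w ^ m` would be `1` or `z`
      obtain ⟨x0, hx0, o0, ho0, hz⟩ := hd.z_mem_DO hq
      have hzc : ∀ c ∈ d.C, Commute c d.z := fun c hc' => Frame.Spec.z_central hc'
      have hx2 : π ⟨x0, hx0⟩ * π ⟨x0, hx0⟩ = 1 := by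
        rw [← map_mul, hker]
        show x0 * x0 ∈ d.O
        have hx0e : x0 = d.z * o0⁻¹ := by rw [hz, mul_inv_cancel_right]
        rw [hx0e, show d.z * o0⁻¹ * (d.z * o0⁻¹) = d.z * (o0⁻¹ * d.z) * o0⁻¹ by group,
          (hzc _ (inv_mem (d.O_le ho0))).eq, ← mul_assoc, invol_mul_self hd.zord, one_mul]
        exact mul_mem (inv_mem ho0) (inv_mem ho0)
      have hx1 : π ⟨x0, hx0⟩ ≠ 1 := fun e => by
        have hzO : d.z ∈ d.O := by rw [hz]; exact mul_mem ((hker _).1 e) ho0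
        exact not_mem_of_odd d.O_odd hd.zord hzO
      have h2 := sl2_two_ne hd
      have hneg : π ⟨x0, hx0⟩ = -1 :=
        (SL2Orders.eq_one_or_neg_one_of_sq h2 _ hx2).resolve_left hx1
      set a : ↥d.D := ⟨((w ^ m : ↥d.C) : G), (pow_mem hwD m : w ^ m ∈ d.Dc)⟩ with ha
      have hca : π a ∈ Subgroup.center _ := hc ⟨a, hwm, rfl⟩
      obtain ⟨r, hr, hra⟩ := Matrix.SpecialLinearGroup.mem_center_iff.1 hca
      have ha2 : π a * π a = 1 := by
        apply Subtype.ext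
        show (π a).1 * (π a).1 = 1
        rw [← hra, ← map_mul, ← sq, show r ^ 2 = 1 from by simpa using hr, map_one]
      have haord : orderOf (a : G) = 2 ^ k := by
        rw [ha]
        show orderOf ((w ^ m : ↥d.C) : G) = _
        rw [Subgroup.orderOf_coe]
        exact hord
      have hone : (a : G) = 1 ∨ (a : G) = d.z := by
        rcases SL2Orders.eq_one_or_neg_one_of_sq h2 _ ha2 with e | e
        · left
          refine orderOf_eq_one_iff.1 (Nat.eq_one_of_dvd_coprimes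
            (Nat.Coprime.pow_left k (Nat.coprime_two_left.2 d.O_odd)) (haord ▸ dvd_rfl)
            (Subgroup.orderOf_dvd_natCard _ ((hker a).1 e)))
        · right
          have h3 : (a : G) * x0 ∈ d.O := (hker (a * ⟨x0, hx0⟩)).1 (by rw [map_mul, e, hneg]; simp)
          have h4 : (a : G) * d.z ∈ d.O := by
            rw [hz, ← mul_assoc]
            exact mul_mem h3 ho0
          have hco : Commute (a : G) d.z := hzc _ (d.D_le a.2)
          have h5 : ((a : G) * d.z) ^ 2 ^ (k + 1) = 1 := by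
            rw [hco.mul_pow, pow_succ, pow_mul, pow_mul, ← haord, pow_orderOf_eq_one, one_pow, one_mul,
              ← pow_mul, pow_mul', sq, invol_mul_self hd.zord, one_pow]
          have h6 : (a : G) * d.z = 1 := orderOf_eq_one_iff.1 (Nat.eq_one_of_dvd_coprimes
            (Nat.Coprime.pow_left (k + 1) (Nat.coprime_two_left.2 d.O_odd)) (orderOf_dvd_of_pow_eq_one h5)
            (Subgroup.orderOf_dvd_natCard _ h4))
          rw [eq_inv_of_mul_eq_one_left h6, invol_inv hd.zord]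
      rcases hone with e | e
      · exact hg1 (by rw [← hgm, show (w ^ m : ↥d.C) = 1 from Subtype.ext e, map_one])
      · exact hg1 (by rw [← hgm, show (w ^ m : ↥d.C) = ⟨d.z, Frame.Spec.z_mem_C⟩ from Subtype.ext e, hφz])
    · -- `D = K1`
      have hD : ∀ y : ↥d.C, y ∈ d.Dc → φ y ∈ Subgroup.zpowers g := by
        haveI := d.D_perfect
        have hsurj : Function.Surjective ((QuotientGroup.mk' K1).comp (d.O.subgroupOf d.D).subtype) := fun q => by
          obtain ⟨y, rfl⟩ := QuotientGroup.mk'_surjective K1 q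
          obtain ⟨l, hl, hly⟩ := ht.ge (Subgroup.mem_top (π y))
          refine ⟨⟨l⁻¹ * y, show ((l⁻¹ * y : ↥d.D) : G) ∈ d.O from
            (hker _).1 (by rw [map_mul, map_inv, hly, inv_mul_cancel])⟩, ?_⟩
          show QuotientGroup.mk' K1 (l⁻¹ * y) = _
          rw [map_mul, map_inv, show QuotientGroup.mk' K1 l = 1 from (QuotientGroup.eq_one_iff l).2 hl, inv_one,
            one_mul]
        haveI : Group.IsPerfect (↥d.D ⧸ K1) :=
          Group.IsPerfect.ofSurjective (f := QuotientGroup.mk' K1) (QuotientGroup.mk'_surjective _)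
        haveI := CfsgLib.GW.subsingleton_of_odd (X := ↥d.D ⧸ K1)
          ((odd_subgroupOf (H := d.D) d.O_odd).of_dvd_nat (Subgroup.card_dvd_of_surjective _ hsurj))
        intro y hy
        exact (QuotientGroup.eq_one_iff (N := K1) (⟨(y : G), hy⟩ : ↥d.D)).1 (Subsingleton.elim _ _)
      exact hg1 (map_trivial_of_comm φ (P := d.Dc) (fun a ha b hb => by
        obtain ⟨i, hi⟩ := Subgroup.mem_zpowers_iff.1 (hD a ha)
        obtain ⟨j, hj⟩ := Subgroup.mem_zpowers_iff.1 (hD b hb)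
        rw [← hi, ← hj, ← zpow_add, ← zpow_add, add_comm]) w hwD)
  · push Not at hcase
    by_cases hv1 : φ vC = 1
    · -- `v` acts trivially
      have hle := hd.D_le_of_comm h hq hv hvC hvz (K := (φ.ker).map d.C.subtype)
        (fun x hx k hk _ => by
          obtain ⟨a, ha, rfl⟩ := hk
          exact ⟨_, (φ.normal_ker).conj_mem a ha ⟨x, d.D_le hx⟩, rfl⟩)
        (fun x hx => ⟨vC * ⟨x, d.D_le hx⟩ * vC⁻¹ * (⟨x, d.D_le hx⟩ : ↥d.C)⁻¹, by
          show φ _ = 1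
          rw [map_mul, map_mul, map_mul, map_inv, hv1, inv_one, one_mul, mul_one, map_inv, mul_inv_cancel], rfl⟩)
      intro x hx
      obtain ⟨a, ha, hax⟩ := hle hx
      rw [← show a = x from Subtype.ext hax]
      exact ha
    set H : Subgroup ↥d.C := d.Dc ⊔ Subgroup.zpowers vC
    set Y := H.map φ
    set ψ : H →* Y := φ.subgroupMap H
    have hvH : vC ∈ H := Subgroup.mem_sup_right (Subgroup.mem_zpowers _)
    set vb : Y := ψ ⟨vC, hvH⟩
    have hvo : orderOf vb = 2 := orderOf_eq_prime (by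
        rw [sq, ← map_mul, show (⟨vC, hvH⟩ : H) * ⟨vC, hvH⟩ = 1 from Subtype.ext hvv, map_one])
      fun e => hv1 (congrArg Subtype.val e)
    have hiso : Cfsg.IsIsolated vb := by
      intro g hg
      obtain ⟨⟨a, ha⟩, rfl⟩ := φ.subgroupMap_surjective H g
      rw [← SetLike.mem_coe, Subgroup.normal_mul] at ha
      obtain ⟨x, hx, _, ⟨i, rfl⟩, rfl⟩ := ha
      have hc : φ (x * vC ^ i * vC * (x * vC ^ i)⁻¹) = φ (x * vC * x⁻¹) :=
        congrArg φ (by rw [mul_assoc x, ((Commute.refl vC).zpow_left i).eq]; group)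
      refine Subtype.ext ?_
      show φ (x * vC ^ i) * φ vC * (φ (x * vC ^ i))⁻¹ = φ vC
      rw [← map_inv, ← map_mul, ← map_mul, hc]
      refine hcase x hx ?_
      have := congrArg Subtype.val hg.eq
      change φ vC * (φ (x * vC ^ i) * φ vC * (φ (x * vC ^ i))⁻¹) =
        φ (x * vC ^ i) * φ vC * (φ (x * vC ^ i))⁻¹ * φ vC at this
      rw [← map_inv, ← map_mul, ← map_mul, hc] at this
      exact this
    have hZ := CfsgLib.ZStar.commutator_mem hvo hiso
    set K : Subgroup G := ((((oddCore Y).map Y.subtype).comap φ) ⊓ d.Dc).map d.C.subtype with hK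
    have hle := hd.D_le_of_comm h hq hv hvC hvz (K := K)
      (fun x hx k hk _ => by
        obtain ⟨a, ⟨ha, haD⟩, rfl⟩ := hk
        obtain ⟨b, hb, hba⟩ := ha
        set xC : ↥d.C := ⟨x, d.D_le hx⟩
        have hxH : xC ∈ H := Subgroup.mem_sup_left hx
        refine ⟨xC * a * xC⁻¹, ⟨⟨ψ ⟨xC, hxH⟩ * b * (ψ ⟨xC, hxH⟩)⁻¹,
          (inferInstance : (oddCore Y).Normal).conj_mem b hb _, ?_⟩, d.Dc_normal.conj_mem a haD xC⟩, rfl⟩
        rw [map_mul φ, map_mul φ, map_inv φ, ← hba]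
        rfl)
      (fun x hx => by
        set xC : ↥d.C := ⟨x, d.D_le hx⟩
        have hxH : xC ∈ H := Subgroup.mem_sup_left hx
        refine ⟨vC * xC * vC⁻¹ * xC⁻¹, ⟨⟨_, hZ (ψ ⟨xC, hxH⟩), ?_⟩,
          d.Dc.mul_mem (d.Dc_normal.conj_mem xC hx vC) (d.Dc.inv_mem (show xC ∈ d.Dc from hx))⟩, rfl⟩
        rw [map_mul φ, map_mul φ, map_mul φ, map_inv φ, map_inv φ]
        rfl)
    exact fun x hx => map_trivial_of_odd φ (P := d.Dc) (B := (oddCore Y).map Y.subtype)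
      (by rw [Subgroup.card_map_of_injective Y.subtype_injective]; exact CfsgLib.odd_card_oddCore)
      (fun y hy => by
        obtain ⟨a, ⟨ha, -⟩, hay⟩ := hle (show (y : G) ∈ d.D from hy)
        rw [← show a = y from Subtype.ext hay]
        exact ha) x hx

/-- Two commuting reflections of a plane are equal or have product inversion. -/
theorem pair_inverts {E : Type w} [CommGroup E] [Finite E] {r : ℕ} (hr : r.Prime) (hr2 : r ≠ 2)
    (hE : Nat.card E = r ^ 2) {σ τ : MulAut E} (hσ : σ * σ = 1) (hτ : τ * τ = 1)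
    (hσf : ∃ e, e ≠ 1 ∧ σ e = e) (hσm : ∃ e, σ e ≠ e) (hτf : ∃ e, e ≠ 1 ∧ τ e = e) (hτm : ∃ e, τ e ≠ e)
    (hcm : σ * τ = τ * σ) (hne : σ ≠ τ) : ∀ e, σ (τ e) = e⁻¹ := by
  have hodd : Odd (Nat.card E) := hE ▸ (hr.odd_of_ne_two hr2).pow
  have hEh : ∀ e : E, e * e = 1 → e = 1 := fun e he => orderOf_eq_one_iff.1 (Nat.eq_one_of_dvd_coprimes
    (Nat.coprime_two_left.2 hodd) (orderOf_dvd_of_pow_eq_one (by rw [sq]; exact he)) (orderOf_dvd_natCard e))
  let F : MulAut E → Subgroup E := fun α => MonoidHom.eqLocus α.toMonoidHom (MonoidHom.id E)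
  have hF : ∀ α e, e ∈ F α ↔ α e = e := fun α e => Iff.rfl
  have hcard : ∀ α : MulAut E, (∃ e, e ≠ 1 ∧ α e = e) → (∃ e, α e ≠ e) → Nat.card (F α) = r := by
    intro α hf hm
    obtain ⟨i, hi, hci⟩ := (Nat.dvd_prime_pow hr).1 (hE ▸ Subgroup.card_subgroup_dvd_card (F α))
    have h0 : i ≠ 0 := fun e0 => by
      obtain ⟨e, he1, he⟩ := hf
      rw [e0, pow_zero] at hci
      exact he1 (Subgroup.mem_bot.1 ((Subgroup.eq_bot_of_card_eq _ hci) ▸ (hF α e).2 he))
    have h2 : i ≠ 2 := fun e0 => by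
      obtain ⟨e, he⟩ := hm
      exact he ((hF α e).1 ((Subgroup.card_eq_iff_eq_top (F α)).1 (hci.trans (e0 ▸ hE.symm)) ▸ Subgroup.mem_top e))
    rw [hci, show i = 1 by omega, pow_one]
  have hττ : ∀ e, τ (τ e) = e := fun e => DFunLike.congr_fun hτ e
  have hσσ : ∀ e, σ (σ e) = e := fun e => DFunLike.congr_fun hσ e
  have hστ : ∀ e, σ (τ e) = τ (σ e) := fun e => DFunLike.congr_fun hcm e
  have key : ∀ {α β : MulAut E}, (∀ e, α (α e) = e) → (∀ e, β (β e) = e) → (∀ e, α (β e) = β (α e)) →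
      Nat.card (F α) = r → Nat.card (F β) = r → α ≠ β → ∀ e, α e = e → β e = e⁻¹ := by
    intro α β hα hβ hab hcα hcβ hne e he
    have h1 : α (e * β e) = e * β e := by rw [map_mul, hab, he]
    have h2 : β (e * β e) = e * β e := by rw [map_mul, hβ, mul_comm]
    by_contra hne1
    have he2 : e * β e ≠ 1 := fun e1 => hne1 (eq_inv_of_mul_eq_one_right e1)
    have heq : ∀ γ, Nat.card (F γ) = r → γ (e * β e) = e * β e → F γ = Subgroup.zpowers (e * β e) :=
      fun γ hc hfix => (Subgroup.eq_of_le_of_card_ge (Subgroup.zpowers_le.2 ((hF γ _).2 hfix)) (by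
        rw [hc, Nat.card_zpowers]
        have hd : orderOf (e * β e) ∣ r := hc ▸ Subgroup.orderOf_dvd_natCard _ ((hF γ _).2 hfix)
        exact ((Nat.dvd_prime hr).1 hd |>.resolve_left fun h => he2 (orderOf_eq_one_iff.1 h)).ge)).symm
    have hFF : F α = F β := (heq α hcα h1).trans (heq β hcβ h2).symm
    refine hne (MulEquiv.ext fun x => ?_)
    have hx1 : β (x * α x) = x * α x := (hF β _).1 (hFF ▸ (hF α _).2 (by rw [map_mul, hα, mul_comm]))
    have hy : α (x * (α x)⁻¹) = (x * (α x)⁻¹)⁻¹ := by rw [map_mul, map_inv, hα, mul_inv_rev, inv_inv]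
    set y := x * (α x)⁻¹ with hydef
    have hy2 : α (y * β y) = y * β y := (hF α _).1 (hFF ▸ (hF β _).2 (by rw [map_mul, hβ, mul_comm]))
    have hy3 : y * β y = 1 := hEh _ (by
      have hy2' := hy2
      rw [map_mul, hab, hy, map_inv, ← mul_inv] at hy2'
      nth_rewrite 1 [← hy2']
      exact inv_mul_cancel _)
    have hy4 : β y = α y := by rw [hy, eq_inv_of_mul_eq_one_right hy3]
    have hsum : β (x * α x * y) = α (x * α x * y) := by
      have hαs : α (x * α x) = x * α x := by rw [map_mul, hα, mul_comm]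
      rw [map_mul β, map_mul α (x * α x), hx1, hy4, hαs]
    rw [show x * α x * y = x * x by rw [hydef, mul_comm x (α x)⁻¹, mul_assoc x, mul_inv_cancel_left], map_mul,
      map_mul] at hsum
    refine (eq_of_mul_inv_eq_one (hEh _ ?_)).symm
    calc β x * (α x)⁻¹ * (β x * (α x)⁻¹) = (β x * β x) * ((α x)⁻¹ * (α x)⁻¹) := mul_mul_mul_comm _ _ _ _
      _ = 1 := by rw [hsum, ← mul_inv, mul_inv_cancel]
  have hcσ := hcard σ hσf hσm
  have hcτ := hcard τ hτf hτm
  have hK : ∀ e, e ∈ MonoidHom.eqLocus (σ * τ).toMonoidHom (MulEquiv.inv E).toMonoidHom ↔ σ (τ e) = e⁻¹ :=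
    fun e => Iff.rfl
  set K := MonoidHom.eqLocus (σ * τ).toMonoidHom (MulEquiv.inv E).toMonoidHom with hKdef
  have h1 : F σ ≤ K := fun e he => (hK e).2 (by
    rw [key hσσ hττ hστ hcσ hcτ hne e ((hF σ e).1 he), map_inv, (hF σ e).1 he])
  have h2 : F τ ≤ K := fun e he => (hK e).2 (by
    rw [(hF τ e).1 he, key hττ hσσ (fun e => (hστ e).symm) hcτ hcσ (Ne.symm hne) e ((hF τ e).1 he)])
  have hKtop : K = ⊤ := by
    obtain ⟨i, hi, hci⟩ := (Nat.dvd_prime_pow hr).1 (hE ▸ Subgroup.card_subgroup_dvd_card K)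
    by_contra hKne
    have hi2 : i ≠ 2 := fun e0 => hKne ((Subgroup.card_eq_iff_eq_top K).1 (hci.trans (e0 ▸ hE.symm)))
    have hle : Nat.card K ≤ r := by
      rw [hci]
      calc r ^ i ≤ r ^ 1 := Nat.pow_le_pow_right hr.pos (by omega)
        _ = r := pow_one r
    have e1 := Subgroup.eq_of_le_of_card_ge h1 (hle.trans hcσ.ge)
    have e2 := Subgroup.eq_of_le_of_card_ge h2 (hle.trans hcτ.ge)
    obtain ⟨e, he1, he⟩ := hσf
    have hτe := (hF τ e).1 ((e1.trans e2.symm) ▸ (hF σ e).2 he)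
    rw [key hσσ hττ hστ hcσ hcτ hne e he] at hτe
    exact he1 (hEh e (by nth_rewrite 1 [← hτe]; exact inv_mul_cancel e))
  exact fun e => (hK e).1 (hKtop ▸ Subgroup.mem_top e)

/-- The action of a group on a quotient of a normal subgroup by an invariant one. -/
theorem exists_quot_action {Γ : Type u} [Group Γ] (W : Subgroup Γ) [W.Normal] (N : Subgroup W) [N.Normal]
    (hN : ∀ c : Γ, N.map (MulAut.conjNormal (H := W) c).toMonoidHom = N) :
    ∃ φ : Γ →* MulAut (W ⧸ N), ∀ (c : Γ) (x : W),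
      φ c (x : W ⧸ N) = ((MulAut.conjNormal (H := W) c x : W) : W ⧸ N) :=
  ⟨MonoidHom.mk' (fun c => QuotientGroup.congr N N (MulAut.conjNormal (H := W) c) (hN c)) fun a b =>
      MulEquiv.ext fun q => by
        obtain ⟨x, rfl⟩ := QuotientGroup.mk_surjective q
        show ((MulAut.conjNormal (H := W) (a * b) x : W) : W ⧸ N) = _
        rw [map_mul]
        rfl,
    fun _ _ => rfl⟩

/-- `D` is trivial on a plane in which `v` has both eigenvalues. -/
theorem Frame.Spec.plane_trivial (h : Hyp G) (hd : d.Spec) (hq : 3 < d.q) {v : G} (hv : orderOf v = 2)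
    (hvC : v ∈ d.C) (hvz : v ≠ d.z) {r : ℕ} (hr : r.Prime) (hr2 : r ≠ 2) {W V : Subgroup G} (hWC : W ≤ d.C)
    (hVW : V ≤ W) (hWn : ∀ c ∈ d.C, ∀ x ∈ W, c * x * c⁻¹ ∈ W) (hVn : ∀ c ∈ d.C, ∀ x ∈ V, c * x * c⁻¹ ∈ V)
    (hcomm : ∀ a ∈ W, ∀ b ∈ W, a * b * a⁻¹ * b⁻¹ ∈ V) (hWo : Odd (Nat.card W))
    (hcard : ∀ a ∈ W, a ∉ V → v * a = a * v → ∀ b ∈ W, b ∉ V → v * b * v⁻¹ = b⁻¹ →
      Nat.card W = r ^ 2 * Nat.card V) :
    ∀ x ∈ d.D, ∀ a ∈ W, x * a * x⁻¹ * a⁻¹ ∈ V := by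
  set W' : Subgroup ↥d.C := W.subgroupOf d.C
  haveI : W'.Normal := ⟨fun a ha c => hWn c c.2 a ha⟩
  set N : Subgroup W' := (V.subgroupOf d.C).subgroupOf W'
  haveI : N.Normal := ⟨fun a ha c => hVn _ (c : ↥d.C).2 _ ha⟩
  have hN : ∀ c : ↥d.C, N.map (MulAut.conjNormal (H := W') c).toMonoidHom = N := fun c => by
    apply le_antisymm
    · rintro _ ⟨a, ha, rfl⟩
      exact hVn c c.2 _ ha
    · intro a ha
      refine ⟨(MulAut.conjNormal (H := W') c⁻¹ a), hVn _ (c⁻¹).2 _ ha, ?_⟩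
      show MulAut.conjNormal (H := W') c (MulAut.conjNormal (H := W') c⁻¹ a) = a
      rw [← MulAut.mul_apply, ← map_mul, mul_inv_cancel, map_one, MulAut.one_apply]
  obtain ⟨φ, hφ⟩ := exists_quot_action W' N hN
  letI : CommGroup (W' ⧸ N) :=
    { (inferInstance : Group (W' ⧸ N)) with
      mul_comm := fun p q => by
        obtain ⟨a, rfl⟩ := QuotientGroup.mk_surjective p
        obtain ⟨b, rfl⟩ := QuotientGroup.mk_surjective q
        rw [← QuotientGroup.mk_mul, ← QuotientGroup.mk_mul]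
        refine QuotientGroup.eq.2 ?_
        show ((((a * b)⁻¹ * (b * a) : W') : ↥d.C) : G) ∈ V
        have e : ∀ p q : G, (p * q)⁻¹ * (q * p) = q⁻¹ * p⁻¹ * q⁻¹⁻¹ * p⁻¹⁻¹ := fun p q => by group
        simp only [Subgroup.coe_mul, Subgroup.coe_inv]
        rw [e]
        exact hcomm _ (inv_mem b.2) _ (inv_mem a.2) }
  haveI : Finite (MulAut (W' ⧸ N)) :=
    Finite.of_injective (fun f : MulAut (W' ⧸ N) => (f : W' ⧸ N → W' ⧸ N)) DFunLike.coe_injective
  set vC : ↥d.C := ⟨v, hvC⟩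
  set σ := φ vC
  have hσσ : σ * σ = 1 := by
    rw [← map_mul, show vC * vC = 1 from Subtype.ext (invol_mul_self hv), map_one]
  have hfix : ∀ {q : W' ⧸ N}, q ≠ 1 → σ q = q → ∃ a ∈ W, a ∉ V ∧ v * a = a * v := by
    intro q hq1 hq'
    obtain ⟨a, rfl⟩ := QuotientGroup.mk_surjective q
    rw [hφ] at hq'
    have hm' := QuotientGroup.eq.1 hq'
    have hm : (v * ((a : ↥d.C) : G) * v⁻¹)⁻¹ * ((a : ↥d.C) : G) ∈ V := hm'
    obtain ⟨p, ⟨hp1, hp2, hp3⟩, -⟩ := (Cfsg.Agent.S1124.result v hv W hWo (hWn v hvC)).1 _ a.2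
    obtain ⟨hpW, hpc⟩ := Subgroup.mem_inf.1 hp1
    rw [Subgroup.mem_centralizer_singleton_iff] at hpc
    change ((a : ↥d.C) : G) = p.1 * p.2 at hp3
    refine ⟨p.1, hpW, fun hpV => hq1 ?_, hpc.symm⟩
    have h2 : p.2 * p.2 ∈ V := by
      rw [hp3, show v * (p.1 * p.2) * v⁻¹ = (v * p.1 * v⁻¹) * (v * p.2 * v⁻¹) by group, hp2.2,
        ← hpc, mul_inv_cancel_right, mul_inv_rev, inv_inv] at hm
      simpa [mul_assoc] using hm
    refine (QuotientGroup.eq_one_iff a).2 ?_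
    show ((a : ↥d.C) : G) ∈ V
    rw [hp3]
    exact mul_mem hpV (mem_of_sq_mem hWo hp2.1 h2)
  have hmov : ∀ {q : W' ⧸ N}, σ q ≠ q → ∃ b ∈ W, b ∉ V ∧ v * b * v⁻¹ = b⁻¹ := by
    intro q hq1
    obtain ⟨a, rfl⟩ := QuotientGroup.mk_surjective q
    obtain ⟨p, ⟨hp1, hp2, hp3⟩, -⟩ := (Cfsg.Agent.S1124.result v hv W hWo (hWn v hvC)).1 _ a.2
    obtain ⟨hpW, hpc⟩ := Subgroup.mem_inf.1 hp1
    rw [Subgroup.mem_centralizer_singleton_iff] at hpc
    change ((a : ↥d.C) : G) = p.1 * p.2 at hp3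
    refine ⟨p.2, hp2.1, fun hpV => hq1 ?_, hp2.2⟩
    rw [hφ]
    refine QuotientGroup.eq.2 ?_
    show (v * ((a : ↥d.C) : G) * v⁻¹)⁻¹ * ((a : ↥d.C) : G) ∈ V
    rw [hp3, show v * (p.1 * p.2) * v⁻¹ = (v * p.1 * v⁻¹) * (v * p.2 * v⁻¹) by group, hp2.2, ← hpc,
      mul_inv_cancel_right, mul_inv_rev, inv_inv]
    simpa [mul_assoc] using mul_mem hpV hpV
  have hz1 : φ ⟨d.z, Frame.Spec.z_mem_C⟩ = 1 := MulEquiv.ext fun q => by
    obtain ⟨a, rfl⟩ := QuotientGroup.mk_surjective q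
    rw [hφ]
    refine congrArg _ (Subtype.ext (Subtype.ext ?_))
    show d.z * ((a : ↥d.C) : G) * d.z⁻¹ = ((a : ↥d.C) : G)
    rw [← Frame.Spec.z_central (a : ↥d.C).2, mul_inv_cancel_right]
  have main := hd.hom_trivial h hq hv hvC hvz φ hz1 (fun x hx hcm hne => by
    intro y
    set τ := φ (x * vC * x⁻¹)
    have hτσ : τ = φ x * σ * (φ x)⁻¹ := by rw [← map_inv, ← map_mul, ← map_mul]
    have hτσ' : ∀ e, τ (φ x e) = φ x (σ e) := fun e => by
      rw [hτσ, MulAut.mul_apply, MulAut.mul_apply, MulAut.inv_apply, MulEquiv.symm_apply_apply]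
    by_cases hsm : ∀ e, σ e = e
    · have hσ1 : σ = 1 := MulEquiv.ext hsm
      exact absurd (by rw [hτσ, hσ1, mul_one, mul_inv_cancel] : τ = σ) hne
    push Not at hsm
    obtain ⟨q₀, hq₀⟩ := hsm
    by_cases hsf : ∀ e, σ e = e → e = 1
    · -- `σ` is inversion
      have hinv : ∀ e, σ e = e⁻¹ := fun e => eq_inv_of_mul_eq_one_right
        (hsf _ (by rw [map_mul, ← MulAut.mul_apply, hσσ, MulAut.one_apply, mul_comm]))
      exfalso
      refine hne (MulEquiv.ext fun e => ?_)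
      obtain ⟨e, rfl⟩ := (φ x).surjective e
      show τ (φ x e) = σ (φ x e)
      rw [hτσ', hinv, hinv, map_inv]
    push Not at hsf
    obtain ⟨qf, hqf, hqf1⟩ := hsf
    obtain ⟨a, ha, haV, hav⟩ := hfix hqf1 hqf
    obtain ⟨b, hb, hbV, hbv⟩ := hmov hq₀
    have hE : Nat.card (W' ⧸ N) = r ^ 2 := by
      have h1 := Subgroup.card_eq_card_quotient_mul_card_subgroup N
      have hW' : Nat.card W' = Nat.card W := Nat.card_congr (Subgroup.subgroupOfEquivOfLe hWC).toEquiv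
      have hNV : Nat.card N = Nat.card V := by
        rw [Nat.card_congr (Subgroup.subgroupOfEquivOfLe (fun z hz => hVW hz :
          V.subgroupOf d.C ≤ W')).toEquiv]
        exact Nat.card_congr (Subgroup.subgroupOfEquivOfLe (hVW.trans hWC)).toEquiv
      rw [hW', hNV, hcard a ha haV hav b hb hbV hbv] at h1
      exact (Nat.eq_of_mul_eq_mul_right Nat.card_pos h1).symm
    have hττ : τ * τ = 1 := by
      rw [hτσ, show φ x * σ * (φ x)⁻¹ * (φ x * σ * (φ x)⁻¹) = φ x * (σ * σ) * (φ x)⁻¹ by group, hσσ, mul_one,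
        mul_inv_cancel]
    have hinv := pair_inverts hr hr2 hE (σ := σ) (τ := τ) hσσ hττ ⟨qf, hqf1, hqf⟩ ⟨q₀, hq₀⟩
      ⟨φ x qf, fun e => hqf1 ((φ x).injective (e.trans (map_one _).symm)), by rw [hτσ', hqf]⟩
      ⟨φ x q₀, fun e => hq₀ ((φ x).injective ((hτσ' q₀).symm.trans e))⟩ hcm.eq (Ne.symm hne)
    refine MulEquiv.ext fun e => ?_
    rw [map_mul φ vC, MulAut.mul_apply, MulAut.mul_apply, MulAut.mul_apply, MulAut.mul_apply, hinv, hinv, map_inv])
  intro x hx a ha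
  have h1 : φ ⟨x, d.D_le hx⟩ ((⟨⟨a, hWC ha⟩, ha⟩ : W') : W' ⧸ N) = _ :=
    DFunLike.congr_fun (main ⟨x, d.D_le hx⟩ hx) _
  rw [hφ, MulAut.one_apply] at h1
  have h2' := QuotientGroup.eq.1 h1
  have h2 : (x * a * x⁻¹)⁻¹ * a ∈ V := h2'
  have h3 := hVn _ (mul_mem (mul_mem (d.D_le hx) (hWC ha)) (inv_mem (d.D_le hx))) _ (inv_mem h2)
  have e : ∀ p : G, p * (p⁻¹ * a)⁻¹ * p⁻¹ = p * a⁻¹ * p * p⁻¹ := fun p => by group
  rw [e, mul_inv_cancel_right] at h3
  exact h3

/-- A perfect subgroup stabilising `W ≥ V ≥ 1` with `V` abelian centralises `W`. -/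
theorem stab_trivial {E : Subgroup G} [Group.IsPerfect E] {W V : Subgroup G}
    (hVc : ∀ a ∈ V, ∀ b ∈ V, a * b = b * a) (hEV : ∀ x ∈ E, ∀ a ∈ V, x * a = a * x)
    (h : ∀ x ∈ E, ∀ a ∈ W, x * a * x⁻¹ * a⁻¹ ∈ V) : ∀ x ∈ E, ∀ a ∈ W, x * a = a * x := by
  intro x hx a ha
  let φ : E →* V := MonoidHom.mk' (fun x => ⟨_, h x x.2 a ha⟩) fun p q => Subtype.ext (by
    show (p : G) * q * a * ((p : G) * q)⁻¹ * a⁻¹ = (p : G) * a * (p : G)⁻¹ * a⁻¹ * ((q : G) * a * (q : G)⁻¹ * a⁻¹)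
    rw [hVc _ (h p p.2 a ha) _ (h q q.2 a ha)]
    calc (p : G) * q * a * ((p : G) * q)⁻¹ * a⁻¹ =
          (p : G) * ((q : G) * a * (q : G)⁻¹ * a⁻¹) * (a * (p : G)⁻¹ * a⁻¹) := by group
      _ = ((q : G) * a * (q : G)⁻¹ * a⁻¹) * (p : G) * (a * (p : G)⁻¹ * a⁻¹) := by rw [hEV p p.2 _ (h q q.2 a ha)]
      _ = _ := by group)
  have h1 := map_trivial_of_comm φ (P := ⊤) (h := fun p _ q _ => Subtype.ext (hVc _ (φ p).2 _ (φ q).2))
  haveI : Group.IsPerfect (⊤ : Subgroup E) := inferInstance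
  have h2 : (x * a * x⁻¹ * a⁻¹ : G) = 1 := congrArg Subtype.val (h1 ⟨x, hx⟩ (Subgroup.mem_top _))
  exact mul_inv_eq_iff_eq_mul.1 (mul_inv_eq_one.1 h2)

end CfsgLib.RankTwoModel
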