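import Cfsg.Agent.Lib.RankTwoModel.CMax.Basic

/-!
A maximal subgroup over `N(A₀)`, `1 ≠ A₀ ≤ C_P(u)`, has a component meeting `⟨z, u⟩`.

Blueprint: `blueprint/RankTwo_L5.md` (P5, Step 1).
-/

set_option autoImplicit false
set_option linter.unusedSectionVars false
set_option linter.style.haveILetI false

namespace CfsgLib.RankTwoModel

open Cfsg CfsgLib.BG CfsgLib.GW CfsgLib.BenderMax

universe u

variable {G : Type u} [Group G] [Finite G] {d : Frame G} {r : ℕ}

/-- Elements centralising a subgroup normalise it. -/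
theorem mem_normalizer_of_comm {A : Subgroup G} {x : G} (h : ∀ a ∈ A, a * x = x * a) :
    x ∈ Subgroup.normalizer (A : Set G) :=
  Subgroup.centralizer_le_normalizer (A : Set G) (Subgroup.mem_centralizer_iff.2 h)

/-- No involution is central. -/
theorem Hyp.centralizer_ne_top (h : Hyp G) {w : G} (hw : orderOf w = 2) :
    Subgroup.centralizer ({w} : Set G) ≠ ⊤ := fun e => by
  haveI := h.simple
  have hmem : w ∈ Subgroup.center G := Subgroup.mem_center_iff.2 fun g => mem_cent.1 (e ▸ Subgroup.mem_top g)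
  rcases (inferInstance : (Subgroup.center G).Normal).eq_bot_or_eq_top with e' | e'
  · rw [e', Subgroup.mem_bot] at hmem
    rw [hmem, orderOf_one] at hw
    omega
  · exact h.noncomm ⟨⟨fun a b => Subgroup.mem_center_iff.1 (e'.symm ▸ Subgroup.mem_top b) a⟩⟩

/-- **Step 1.** -/
theorem Cfg.step1 (K : Cfg d r) {u : G} (hu : orderOf u = 2) (huC : u ∈ d.C) (huz : u ≠ d.z) {A0 : Subgroup G}
    (hA : A0 ≤ OO r d.C) (hne : A0 ≠ ⊥) (hAu : ∀ a ∈ A0, a * u = u * a) {H : Subgroup G} (hH : IsCoatom H)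
    (hN : Subgroup.normalizer (A0 : Set G) ≤ H) :
    ∃ L, Comp H L ∧ (d.z ∈ L ∨ u ∈ L ∨ d.z * u ∈ L) := by
  haveI := K.hyp.simple
  haveI := Fact.mk K.prime
  have hz := K.spec.zord
  have hzu : d.z * u = u * d.z := (Frame.Spec.z_central huC).symm
  have hAC : A0 ≤ d.C := hA.trans OO_le
  have hAz : ∀ a ∈ A0, a * d.z = d.z * a := fun a ha => Frame.Spec.z_central (hAC ha)
  have hAp : IsPGroup r A0 := (OO_isPGroup r d.C).to_le hA
  have hzH : d.z ∈ H := hN (mem_normalizer_of_comm hAz)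
  have huH : u ∈ H := hN (mem_normalizer_of_comm hAu)
  obtain ⟨b, hb, hb1, hbA, hbi⟩ := axb K.prime K.odd (M := Subgroup.centralizer ({u} : Set G)) hz
    (mem_cent.2 hzu) (K.z_moves hu huC huz) hAp (fun a ha => mem_cent.2 (hAu a ha)) hAz
  obtain ⟨c, hc, hc1, hcA, hci⟩ := axb K.prime K.odd (M := d.C) hu huC (K.invol_moves hu huC huz) hAp hAC hAu
  have hbH : b ∈ H := hN (mem_normalizer_of_comm hbA)
  have hcH : c ∈ H := hN (mem_normalizer_of_comm hcA)
  have hbo : Odd (Nat.card (OO r (Subgroup.centralizer ({u} : Set G)))) := OO_odd K.prime K.odd _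
  -- an element inverted and centralised is trivial
  have hkill : ∀ {P : Subgroup G} {τ y : G}, Odd (Nat.card P) → y ∈ P → τ * y * τ⁻¹ = y⁻¹ → τ * y = y * τ → y = 1 :=
    fun {P τ y} hP hy h1 h2 => eq_one_of_sq hP hy (by
      rw [h2, mul_inv_cancel_right] at h1
      nth_rewrite 2 [h1]
      exact mul_inv_cancel y)
  have hbC : b ∉ d.C := fun hbC => hb1 (hkill hbo hb hbi (Frame.Spec.z_central hbC).symm)
  have hne' : H ≠ d.C := fun e => hbC (e ▸ hbH)
  have hlead : Cfsg.leadsTo d.C H :=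
    ⟨A0, hne, hA.trans (OO_le_FF K.prime d.C), le_trans inf_le_right hN⟩
  obtain ⟨hf1, -, hf3⟩ := leadsTo_facts K.hyp.noncomm K.coatom hlead
  have h2 : OO 2 d.C ≠ ⊥ := fun e => by
    have hle : Subgroup.zpowers d.z ≤ OO 2 d.C := isPGroup_normal_le_OO
      (IsPGroup.of_card (n := 1) (by rw [Nat.card_zpowers, hz, pow_one]))
      (Subgroup.zpowers_le.2 Frame.Spec.z_mem_C) fun g hg x hx => by
        obtain ⟨i, rfl⟩ := Subgroup.mem_zpowers_iff.1 hx
        rw [((show Commute g d.z from Frame.Spec.z_central hg).zpow_right i).eq, mul_inv_cancel_right]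
        exact ⟨i, rfl⟩
    have hzb := hle (Subgroup.mem_zpowers d.z)
    rw [e, Subgroup.mem_bot] at hzb
    rw [hzb, orderOf_one] at hz
    omega
  have hr2 := OO_ne_bot_dvd Nat.prime_two h2
  have hrr : r ∣ Nat.card (Cfsg.fittingSubgroup d.C) := OO_ne_bot_dvd K.prime fun e => hne (le_bot_iff.1 (e ▸ hA))
  have hle : ∀ q, q.Prime → q ∣ Nat.card (Cfsg.fittingSubgroup d.C) → OO q H ≤ d.C := fun q hq hqd => by
    by_cases hq2 : q = 2
    · exact hf3 q r hq K.prime (by rw [hq2]; exact K.odd) hqd hrr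
    · exact hf3 q 2 hq Nat.prime_two (Ne.symm hq2) hqd hr2
  have hE : EE H ≠ ⊥ := by
    intro hE0
    have hbb : ∀ q, q.Prime → ∀ y ∈ OO q H, b * b * y = y * (b * b) := by
      intro q hq y hy
      by_cases hqd : q ∣ Nat.card (Cfsg.fittingSubgroup d.C)
      · have hzy : ∀ w ∈ OO q H, d.z * w = w * d.z := fun w hw =>
          (Frame.Spec.z_central (hle q hq hqd hw)).symm
        have h1 : d.z * (b * y * b⁻¹) * d.z⁻¹ = b * y * b⁻¹ := by
          rw [hzy _ (conj_OO hbH hy), mul_inv_cancel_right]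
        rw [show d.z * (b * y * b⁻¹) * d.z⁻¹ = (d.z * b * d.z⁻¹) * (d.z * y * d.z⁻¹) * (d.z * b * d.z⁻¹)⁻¹ by group,
          hbi, hzy y hy, mul_inv_cancel_right, inv_inv] at h1
        calc b * b * y = b * (b * y * b⁻¹) * b := by group
          _ = b * (b⁻¹ * y * b) * b := by rw [h1]
          _ = y * (b * b) := by group
      · have hfree := hf1 q hq hqd
        have hodd : Odd (Nat.card (OO q H)) := OO_odd hq (fun e => hqd (e ▸ hr2)) H
        have hinv := inverts_of_free hodd hz (mem_normalizer_OO hzH) fun w hw hzw => Subgroup.mem_bot.1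
          (hfree ▸ (⟨hw, mem_cent.2 hzw.symm⟩ : w ∈ OO q H ⊓ d.C))
        have h1 := hinv _ (conj_OO hbH hy)
        rw [show d.z * (b * y * b⁻¹) * d.z⁻¹ = (d.z * b * d.z⁻¹) * (d.z * y * d.z⁻¹) * (d.z * b * d.z⁻¹)⁻¹ by group,
          hbi, hinv y hy, inv_inv, show b * y * b⁻¹ = (b * y⁻¹ * b⁻¹)⁻¹ by group, inv_inv] at h1
        have h3 := congrArg (fun w => w⁻¹) h1
        simp only [mul_inv_rev, inv_inv] at h3
        calc b * b * y = b * (b * (y * b⁻¹)) * b := by group
          _ = b * (b⁻¹ * (y * b)) * b := by rw [← h3]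
          _ = y * (b * b) := by group
    have hF : b * b ∈ FF H := self_cent hE0 (mul_mem hbH hbH) (comm_FF_of_OO hbb)
    obtain ⟨k, hk⟩ := OO_pow_order K.prime (mul_mem hb hb)
    have hbC2 : b * b ∈ d.C := hle r K.prime hrr (mem_OO_of_FF K.prime hF hk)
    have h3 : b * b = 1 := hkill hbo (mul_mem hb hb) (by
      rw [show d.z * (b * b) * d.z⁻¹ = (d.z * b * d.z⁻¹) * (d.z * b * d.z⁻¹) by group, hbi, mul_inv_rev])
      (Frame.Spec.z_central hbC2).symm
    exact hb1 (eq_one_of_sq hbo hb h3)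
  rcases K.hyp.exists_comp hH.1 hE with ⟨L, hL⟩ | ⟨w, -, hw, hwc⟩
  · haveI := hL.perfect
    exact ⟨L, hL, K.hyp.meets_normal hz hu hzu huz hzH huH hL.le hL.norm (not_odd_of_perfect hL.ne)⟩
  exfalso
  have hwH : H = Subgroup.centralizer ({w} : Set G) := by
    by_contra hne2
    exact K.hyp.centralizer_ne_top hw (hH.2 _ (lt_of_le_of_ne hwc hne2))
  have hcu : ¬ u * c = c * u := fun e => hc1 (hkill (OO_odd K.prime K.odd d.C) hc hci e)
  rcases K.hyp.invol_cases hz hu hzu huz hw (mem_cent.1 (hwc hzH)).symm (mem_cent.1 (hwc huH)).symm with e | e | e <;>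
    subst e
  · exact hne' hwH
  · exact hcu (mem_cent.1 (hwc hcH)).symm
  · refine hcu ?_
    have h1 : Commute c (d.z * u) := mem_cent.1 (hwc hcH)
    have h2' : Commute c d.z := Frame.Spec.z_central (OO_le hc)
    have h4 := h2'.mul_right h1
    rw [← mul_assoc, invol_mul_self hz, one_mul] at h4
    exact h4.eq.symm

end CfsgLib.RankTwoModel
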