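import Cfsg.Agent.Lib.RankTwoModel.CMax.Step1
import Cfsg.Agent.Lib.RankTwoModel.CMax.Model
import Cfsg.Agent.Lib.RankTwoModel.CMax.Dihedral
import Cfsg.Agent.Lib.RankTwoModel.Scalar

/-!
The component is dihedral; for some involution `v` one maximal subgroup contains every `N(⟨b⟩)`, `b ∈ C_P(v)#`.

Blueprint: `blueprint/RankTwo_L5.md` (P5, Step 2).
-/

set_option autoImplicit false
set_option linter.unusedSectionVars false
set_option linter.style.haveILetI false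

namespace CfsgLib.RankTwoModel

open Cfsg CfsgLib.BG CfsgLib.GW CfsgLib.BenderMax

universe u

variable {G : Type u} [Group G] [Finite G] {d : Frame G} {r : ℕ}

theorem exists_coatom_over {A : Subgroup G} (h : A ≠ ⊤) : ∃ N, IsCoatom N ∧ A ≤ N :=
  (eq_top_or_exists_le_coatom A).resolve_left h

/-- An element both inverted and centralised by `τ` in a group of odd order is trivial. -/
theorem eq_one_of_fixed_inverted {P : Subgroup G} (hP : Odd (Nat.card P)) {τ y : G} (hy : y ∈ P)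
    (h1 : τ * y * τ⁻¹ = y⁻¹) (h2 : τ * y = y * τ) : y = 1 :=
  eq_one_of_sq hP hy (by
    rw [h2, mul_inv_cancel_right] at h1
    nth_rewrite 2 [h1]
    exact mul_inv_cancel y)

/-- The square of an inverted element is a commutator with the involution. -/
theorem sq_mem_of_inverted {L : Subgroup G} {v y : G} (hv : orderOf v = 2) (hvL : v ∈ L)
    (hn : ∀ l ∈ L, y * l * y⁻¹ ∈ L) (hinv : v * y * v⁻¹ = y⁻¹) : y * y ∈ L := by
  have h1 := mul_mem (hn v hvL) (inv_mem hvL)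
  have h2 : y * y = y * v * y⁻¹ * v⁻¹ := by
    nth_rewrite 2 [show y = (v * y * v⁻¹)⁻¹ by rw [hinv, inv_inv]]
    group
  rwa [h2]

/-- In a cyclic `r`-group, `r` odd, no automorphism fixes one and inverts another non-trivial element. -/
theorem not_fixed_and_inverted (hr : r.Prime) (hr2 : r ≠ 2) {Y : Subgroup G} (hY : IsPGroup r Y) [IsCyclic Y]
    {u : G} (hu : u ∈ Subgroup.normalizer (Y : Set G)) {a c : G} (ha : a ∈ Y) (ha1 : a ≠ 1)
    (hua : u * a * u⁻¹ = a) (hc : c ∈ Y) (hc1 : c ≠ 1) (huc : u * c * u⁻¹ = c⁻¹) : False := by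
  haveI := Fact.mk hr
  obtain ⟨⟨g, hg⟩, hgen⟩ := IsCyclic.exists_generator (α := Y)
  have hpow : ∀ x ∈ Y, ∃ i : ℤ, g ^ i = x := fun x hx => by
    obtain ⟨i, hi⟩ := Subgroup.mem_zpowers_iff.1 (hgen ⟨x, hx⟩)
    exact ⟨i, by simpa using congrArg Subtype.val hi⟩
  obtain ⟨k, hk⟩ := hpow _ (mem_normalizer_of_mem hu hg)
  have hact : ∀ x ∈ Y, u * x * u⁻¹ = x ^ k := fun x hx => by
    obtain ⟨i, rfl⟩ := hpow x hx
    rw [← conj_zpow, ← hk, ← zpow_mul, ← zpow_mul, mul_comm]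
  have hrd : ∀ x ∈ Y, x ≠ 1 → (r : ℤ) ∣ (orderOf x : ℤ) := fun x hx hx1 => by
    obtain ⟨n, hn⟩ := IsPGroup.iff_orderOf.1 hY ⟨x, hx⟩
    rw [Subgroup.orderOf_mk] at hn
    rw [hn]
    have hn0 : n ≠ 0 := fun e => hx1 (orderOf_eq_one_iff.1 (by rw [hn, e, pow_zero]))
    exact_mod_cast dvd_pow_self r hn0
  have h1 : (r : ℤ) ∣ k - 1 := (hrd a ha ha1).trans (orderOf_dvd_iff_zpow_eq_one.2 (by
    rw [zpow_sub, ← hact a ha, hua, zpow_one, mul_inv_cancel]))
  have h2 : (r : ℤ) ∣ k + 1 := (hrd c hc hc1).trans (orderOf_dvd_iff_zpow_eq_one.2 (by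
    rw [zpow_add, ← hact c hc, huc, zpow_one, inv_mul_cancel]))
  have h3 : (r : ℤ) ∣ 2 := by simpa using dvd_sub h2 h1
  have h4 : r ∣ 2 := by exact_mod_cast h3
  exact hr2 ((Nat.prime_dvd_prime_iff_eq hr Nat.prime_two).1 h4)

/-- In a component with an element of `P` inverted by an involution of `C`, the type is dihedral. -/
theorem Cfg.dih_of (K : Cfg d r) {H L : Subgroup G} (hL : Comp H L) (hzL : d.z ∈ L) {v : G} (hv : orderOf v = 2)
    (hvL : v ∈ L) (hvC : v ∈ d.C) {x : G} (hxL : x ∈ L) (hxP : x ∈ OO r d.C) (hx1 : x ≠ 1)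
    (hxv : v * x * v⁻¹ = x⁻¹) : GWModel (L ⧸ Subgroup.center L) := by
  rcases hL.type with ⟨-, hm⟩ | ⟨hq, hm⟩
  · exact hm
  exfalso
  have hodd := hL.center_odd
  set π := QuotientGroup.mk' (Subgroup.center L)
  set zL : L := ⟨d.z, hzL⟩
  set R := (OO r d.C).subgroupOf L
  have hzo : orderOf zL = 2 := (Subgroup.orderOf_mk _ hzL).trans K.spec.zord
  obtain ⟨hz2, hz1⟩ := quot_sq K.spec.zord hzL hodd
  have ht : orderOf (π zL) = 2 := orderOf_eq_prime (by rw [sq]; exact hz2) hz1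
  have hRC : R.map π ≤ Subgroup.centralizer ({π zL} : Set _) := by
    rintro _ ⟨a, ha, rfl⟩
    refine Subgroup.mem_centralizer_singleton_iff.2 ?_
    rw [← map_mul, ← map_mul, show a * zL = zL * a from Subtype.ext (Frame.Spec.z_central (OO_le ha))]
  have hRodd : Odd (Nat.card (R.map π)) :=
    ((odd_subgroupOf (H := L) (OO_odd K.prime K.odd d.C))).of_dvd_nat (Subgroup.card_map_dvd _ π)
  have hn : ∀ c ∈ Subgroup.centralizer ({π zL} : Set _), ∀ a ∈ R.map π, c * a * c⁻¹ ∈ R.map π := by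
    rintro c hc _ ⟨a, ha, rfl⟩
    obtain ⟨c, rfl⟩ := QuotientGroup.mk'_surjective _ c
    obtain ⟨s, hs, hsc⟩ := exists_lift (O := Subgroup.center L) hodd hzo (x := c) (by
      rw [← QuotientGroup.eq_one_iff]
      show π (c * zL * c⁻¹ * zL⁻¹) = 1
      rw [map_mul, map_mul, map_mul, map_inv, map_inv]
      rw [show π c * π zL = π zL * π c from mem_cent.1 hc]
      group)
    refine ⟨(s⁻¹ * c) * a * (s⁻¹ * c)⁻¹, conj_OO (Subgroup.mem_centralizer_singleton_iff.2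
      (congrArg Subtype.val (mem_cent.1 hsc))) ha, ?_⟩
    have : π s = 1 := (QuotientGroup.eq_one_iff s).2 hs
    simp only [map_mul, map_inv, this, inv_one, one_mul]
    rfl
  have hc := Model.odd_central hL.quasi.2 hq hm ht hRodd hRC hn (π ⟨v, hvL⟩)
    (Subgroup.mem_centralizer_singleton_iff.2 (by
      rw [← map_mul, ← map_mul, show (⟨v, hvL⟩ : L) * zL = zL * ⟨v, hvL⟩ from
        Subtype.ext (Frame.Spec.z_central hvC)]))
    (π ⟨x, hxL⟩) ⟨⟨x, hxL⟩, hxP, rfl⟩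
  rw [← map_mul, ← map_mul] at hc
  have hmem := (QuotientGroup.eq (s := Subgroup.center L)).1 hc.symm
  have hxo := Subgroup.orderOf_dvd_natCard _ hxP
  have hP := OO_odd K.prime K.odd d.C
  have e : ((⟨x, hxL⟩ * ⟨v, hvL⟩ : L)⁻¹ * (⟨v, hvL⟩ * ⟨x, hxL⟩) : L) = (x * x : G) := by
    show (x * v)⁻¹ * (v * x) = _
    rw [show (x * v)⁻¹ * (v * x) = v⁻¹ * (x⁻¹ * (v * x * v⁻¹)) * v by group, hxv,
      show v⁻¹ * (x⁻¹ * x⁻¹) * v = ((v⁻¹ * x * v) * (v⁻¹ * x * v))⁻¹ by group,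
      show v⁻¹ * x * v = v * x * v⁻¹ by rw [invol_inv hv], hxv, mul_inv_rev, inv_inv]
  have hcomm := congrArg Subtype.val (Subgroup.mem_center_iff.1 hmem ⟨v, hvL⟩)
  simp only [Subgroup.coe_mul] at hcomm e
  rw [e] at hcomm
  have h1 : x * x = 1 := eq_one_of_fixed_inverted hP (mul_mem hxP hxP) (by
    rw [show v * (x * x) * v⁻¹ = (v * x * v⁻¹) * (v * x * v⁻¹) by group, hxv]
    group) hcomm
  exact hx1 (eq_one_of_sq hP hxP h1)

/-- The outcome of Step 2. -/
structure Star (d : Frame G) (r : ℕ) (v : G) (H L : Subgroup G) : Prop where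
  invol : orderOf v = 2
  mem_C : v ∈ d.C
  ne : v ≠ d.z
  coatom : IsCoatom H
  comp : Comp H L
  model : GWModel (L ⧸ Subgroup.center L)
  zL : d.z ∈ L
  vL : v ∈ L
  cent : ∀ b ∈ OO r d.C, v * b = b * v → ∀ l ∈ L, b * l = l * b
  unique : ∀ b ∈ OO r d.C, b ≠ 1 → v * b = b * v →
    ∀ Hb, IsCoatom Hb → Subgroup.normalizer (Subgroup.zpowers b : Set G) ≤ Hb → Hb = H

theorem mem_normalizer_zpowers {b x : G} (h : b * x = x * b) :
    x ∈ Subgroup.normalizer (Subgroup.zpowers b : Set G) :=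
  mem_normalizer_of_comm fun a ha => by
    obtain ⟨i, rfl⟩ := Subgroup.mem_zpowers_iff.1 ha
    exact ((show Commute b x from h).zpow_left i).eq

/-- A component containing `z` and `v` of a maximal subgroup over `N⟨b⟩`, given one inside `C(b)`. -/
theorem Cfg.over (K : Cfg d r) {L₁ : Subgroup G} (hq : IsQuasisimple L₁) (hodd : Odd (Nat.card (Subgroup.center L₁)))
    {v : G} (hv : orderOf v = 2) (hvC : v ∈ d.C) (hvz : v ≠ d.z) (hzL : d.z ∈ L₁) (hvL : v ∈ L₁) {x : G}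
    (hxL : x ∈ L₁) (hxP : x ∈ OO r d.C) (hx1 : x ≠ 1) (hxv : v * x * v⁻¹ = x⁻¹) {b : G} (hb : b ∈ OO r d.C)
    (hb1 : b ≠ 1) (hbv : v * b = b * v) (hbL : ∀ l ∈ L₁, b * l = l * b) {H : Subgroup G} (hH : IsCoatom H)
    (hN : Subgroup.normalizer (Subgroup.zpowers b : Set G) ≤ H) :
    ∃ L, Comp H L ∧ L₁ ≤ L ∧ GWModel (L ⧸ Subgroup.center L) ∧
      ∀ c ∈ OO r d.C, v * c = c * v → c ∈ H → ∀ l ∈ L, c * l = l * c := by
  obtain ⟨L, hL, hcase⟩ := K.step1 hv hvC hvz (A0 := Subgroup.zpowers b) (Subgroup.zpowers_le.2 hb)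
    (fun e => hb1 (Subgroup.mem_bot.1 (e ▸ Subgroup.mem_zpowers b))) (fun a ha => by
      obtain ⟨i, rfl⟩ := Subgroup.mem_zpowers_iff.1 ha
      exact ((show Commute b v from hbv.symm).zpow_left i).eq) hH hN
  have hzv : d.z * v = v * d.z := (Frame.Spec.z_central hvC).symm
  have hLH : L₁ ≤ H := fun l hl => hN (mem_normalizer_zpowers (hbL l hl))
  have hnc : ∀ w : G, orderOf w = 2 → w ∈ L₁ → ∃ k ∈ L₁, k * w ≠ w * k := fun w hw hwL => by
    by_contra hno
    push Not at hno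
    exact not_mem_of_odd hodd ((Subgroup.orderOf_mk w hwL).trans hw)
      (Subgroup.mem_center_iff.2 fun k => Subtype.ext (hno k k.2))
  have hle : L₁ ≤ L := by
    rcases hcase with e | e | e
    · exact le_of_mem hq (fun k hk => hL.norm k (hLH hk)) hzL e (hnc _ K.spec.zord hzL)
    · exact le_of_mem hq (fun k hk => hL.norm k (hLH hk)) hvL e (hnc _ hv hvL)
    · exact le_of_mem hq (fun k hk => hL.norm k (hLH hk)) (mul_mem hzL hvL) e
        (hnc _ (orderOf_mul_invol K.spec.zord hv hzv hvz) (mul_mem hzL hvL))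
  have hm := K.dih_of hL (hle hzL) hv (hle hvL) hvC (hle hxL) hxP hx1 hxv
  refine ⟨L, hL, hle, hm, fun c hc hcv hcH => ?_⟩
  refine hL.centralizes hm K.spec.zord hv hzv hvz (hle hzL) (hle hvL) (hle hxL) (Frame.Spec.z_central (OO_le hxP))
    ((OO_odd K.prime K.odd d.C).of_dvd_nat (Subgroup.orderOf_dvd_natCard _ hxP)) hxv ?_ K.prime K.odd
    (R := OO r d.C ⊓ H) ((OO_isPGroup r d.C).to_le inf_le_left) (inf_le_left.trans OO_le)
    (fun a haL haz t ht => ⟨conj_OO (mem_cent.2 haz) ht.1,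
      H.mul_mem (H.mul_mem (hL.le haL) ht.2) (H.inv_mem (hL.le haL))⟩) ⟨hc, hcH⟩ hcH hcv.symm
  by_contra hno
  push Not at hno
  exact hx1 (eq_one_of_fixed_inverted (OO_odd K.prime K.odd d.C) hxP hxv (hno v (hle hvL)))

/-- **Step 2.** -/
theorem Cfg.step2 (K : Cfg d r) :
    ∃ (v : G) (H L : Subgroup G), Star d r v H L ∧ ∃ b ∈ OO r d.C, b ≠ 1 ∧ v * b = b * v := by
  haveI := K.hyp.simple
  haveI := Fact.mk K.prime
  have hPo := OO_odd K.prime K.odd d.C
  have hz := K.spec.zord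
  obtain ⟨u, huU, hu, huz, hcu, -⟩ := K.spec.exists_u
  have huC : u ∈ d.C := Subgroup.mem_centralizer_singleton_iff.2 hcu
  set A := OO r d.C ⊓ Subgroup.centralizer ({u} : Set G) with hA
  obtain ⟨a, ha, ha1, hau⟩ := K.invol_fixes hu huC huz
  have haA : a ∈ A := ⟨ha, mem_cent.2 hau.symm⟩
  have hAne : A ≠ ⊥ := fun e => ha1 (Subgroup.mem_bot.1 (e ▸ haA))
  obtain ⟨H, hH, hN⟩ := exists_coatom_over
    (K.hyp.normalizer_ne_top hAne (hPo.of_dvd_nat (Subgroup.card_dvd_of_le inf_le_left)))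
  obtain ⟨L, hL, hcase⟩ := K.step1 hu huC huz (A0 := A) inf_le_left hAne (fun b hb => mem_cent.1 hb.2) hH hN
  haveI := hL.perfect
  have huH : u ∈ H := hN (mem_normalizer_of_comm fun b hb => mem_cent.1 hb.2)
  have hzH : d.z ∈ H := hN (mem_normalizer_of_comm fun b hb => Frame.Spec.z_central (OO_le hb.1))
  -- `z ∈ L`
  have hzL : d.z ∈ L := by
    obtain ⟨s, hs, hsu⟩ := K.hyp.swap hz hu hcu.symm huz
    have hsN : s ∈ Subgroup.normalizer (A : Set G) := Subgroup.mem_normalizer_fintype fun b hb => by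
      refine ⟨conj_OO hs hb.1, mem_cent.2 ?_⟩
      have hsz : Commute s d.z := Frame.Spec.z_central hs
      have hbz : Commute b d.z := Frame.Spec.z_central (OO_le hb.1)
      have hbu : Commute b u := mem_cent.1 hb.2
      have h1 : Commute (s * b * s⁻¹) (d.z * u) := by
        rw [← hsu]
        exact (Commute.conj_iff s).2 hbu
      have h2 : Commute (s * b * s⁻¹) d.z := (hsz.mul_left hbz).mul_left hsz.inv_left
      have h3 := h2.mul_right h1
      rw [← mul_assoc, invol_mul_self hz, one_mul] at h3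
      exact h3.eq
    have hsz : s * d.z * s⁻¹ = d.z := mul_inv_eq_iff_eq_mul.2 (Frame.Spec.z_central hs)
    rcases hcase with e | e | e
    · exact e
    · have h1 := hL.norm s (hN hsN) u e
      rw [hsu] at h1
      simpa using mul_mem h1 (inv_mem e)
    · have h1 := hL.norm s (hN hsN) _ e
      rw [show s * (d.z * u) * s⁻¹ = (s * d.z * s⁻¹) * (s * u * s⁻¹) by group, hsz, hsu, ← mul_assoc,
        invol_mul_self hz, one_mul] at h1
      simpa using mul_mem e (inv_mem h1)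
  -- a second involution of `L` centralising `z`
  obtain ⟨v, hvL, hv, hvz, hvc⟩ : ∃ v ∈ L, orderOf v = 2 ∧ v ≠ d.z ∧ v * d.z = d.z * v := by
    by_contra hno
    push Not at hno
    have hcz := comm_of_isolated hL.core.le hz hzL fun g hg hcm => by
      by_contra hne
      exact hno _ (mul_mem (mul_mem hg hzL) (inv_mem hg)) ((orderOf_cj g d.z).trans hz) hne hcm.eq
    exact not_mem_of_odd hL.center_odd ((Subgroup.orderOf_mk d.z hzL).trans hz)
      (Subgroup.mem_center_iff.2 fun x => Subtype.ext (hcz x x.2))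
  have hvC : v ∈ d.C := Subgroup.mem_centralizer_singleton_iff.2 hvc
  have hvH : v ∈ H := hL.le hvL
  set Y := OO r d.C ⊓ H with hY
  have hYo : Odd (Nat.card Y) := hPo.of_dvd_nat (Subgroup.card_dvd_of_le inf_le_left)
  have hnY : ∀ {t : G}, t ∈ d.C → t ∈ H → t ∈ Subgroup.normalizer (Y : Set G) := fun htC htH =>
    Subgroup.mem_normalizer_fintype fun b hb => ⟨conj_OO htC hb.1, H.mul_mem (H.mul_mem htH hb.2) (H.inv_mem htH)⟩
  have hAY : A ≤ Y := le_inf inf_le_left (Subgroup.le_normalizer.trans hN)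
  -- `v` moves `Y`
  obtain ⟨y, hy, hyv⟩ : ∃ y ∈ Y, v * y ≠ y * v := by
    by_contra hno
    push Not at hno
    obtain ⟨c, hc, hc1, hcA, hci⟩ := axb K.prime K.odd hv hvC (K.invol_moves hv hvC hvz)
      (A0 := A) ((OO_isPGroup r d.C).to_le inf_le_left) (inf_le_left.trans OO_le)
      (fun b hb => (hno b (hAY hb)).symm)
    have hcY : c ∈ Y := ⟨hc, hN (mem_normalizer_of_comm hcA)⟩
    exact hc1 (eq_one_of_fixed_inverted hPo hc hci (hno c hcY))
  obtain ⟨y', hy', hyp, hyi⟩ := exists_inverted hYo hv (hnY hvC hvH) hy hyv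
  set x := y' * y' with hx
  have hxL : x ∈ L := sq_mem_of_inverted hv hvL (hL.norm y' hy'.2) hyi
  have hxP : x ∈ OO r d.C := mul_mem hy'.1 hy'.1
  have hx1 : x ≠ 1 := fun e => by
    rw [eq_one_of_sq hYo hy' e, orderOf_one] at hyp
    exact Nat.not_prime_one hyp
  have hxv : v * x * v⁻¹ = x⁻¹ := by
    rw [hx, show v * (y' * y') * v⁻¹ = (v * y' * v⁻¹) * (v * y' * v⁻¹) by group, hyi, mul_inv_rev]
  have hm := K.dih_of hL hzL hv hvL hvC hxL hxP hx1 hxv
  -- `v` fixes a non-trivial element of `Y`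
  obtain ⟨b₀, hb₀, hb₀1, hb₀v⟩ : ∃ b ∈ Y, b ≠ 1 ∧ v * b = b * v := by
    by_contra hno
    push Not at hno
    have hinv := inverts_of_free hYo hv (hnY hvC hvH) fun b hb e => by_contra fun h1 => hno b hb h1 e
    have hYc : ∀ b ∈ Y, ∀ c ∈ Y, b * c = c * b := fun b hb c hc => by
      have h1 := hinv _ (mul_mem hb hc)
      rw [show v * (b * c) * v⁻¹ = (v * b * v⁻¹) * (v * c * v⁻¹) by group, hinv b hb, hinv c hc,
        ← mul_inv_rev, inv_inj] at h1
      exact h1.symm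
    have hYL : Y ≤ L := fun b hb => mem_of_sq_mem hYo hb (sq_mem_of_inverted hv hvL (hL.norm b hb.2) (hinv b hb))
    haveI := cyclic_of_cent hL.center_odd hm hz hzL hYL hYo hYc (fun b hb => Frame.Spec.z_central (OO_le hb.1))
      fun b hb hbc => Subtype.ext (eq_one_of_fixed_inverted hYo hb (hinv _ hb)
        (congrArg Subtype.val (Subgroup.mem_center_iff.1 hbc ⟨v, hvL⟩)))
    obtain ⟨c, hc, hc1, hcA, hci⟩ := axb K.prime K.odd hu huC (K.invol_moves hu huC huz)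
      (A0 := A) ((OO_isPGroup r d.C).to_le inf_le_left) (inf_le_left.trans OO_le) (fun b hb => mem_cent.1 hb.2)
    exact not_fixed_and_inverted K.prime K.odd ((OO_isPGroup r d.C).to_le inf_le_left) (hnY huC huH)
      (hAY haA) ha1 (mul_inv_eq_iff_eq_mul.2 hau) ⟨hc, hN (mem_normalizer_of_comm hcA)⟩ hc1 hci
  have hzv : d.z * v = v * d.z := hvc.symm
  have hb₀L : ∀ l ∈ L, b₀ * l = l * b₀ := by
    refine hL.centralizes hm hz hv hzv hvz hzL hvL hxL (Frame.Spec.z_central (OO_le hxP))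
      (hPo.of_dvd_nat (Subgroup.orderOf_dvd_natCard _ hxP)) hxv ?_ K.prime K.odd
      (R := Y) ((OO_isPGroup r d.C).to_le inf_le_left) (inf_le_left.trans OO_le)
      (fun c hcL hcz => fun t ht => mem_normalizer_of_mem (hnY (mem_cent.2 hcz) (hL.le hcL)) ht) hb₀ hb₀.2 hb₀v.symm
    by_contra hno
    push Not at hno
    exact hx1 (eq_one_of_fixed_inverted hPo hxP hxv (hno v hvL))
  set A' := OO r d.C ⊓ Subgroup.centralizer ({v} : Set G) with hA'
  have hb₀A : b₀ ∈ A' := ⟨hb₀.1, mem_cent.2 hb₀v.symm⟩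
  haveI : Nontrivial A' := ⟨⟨b₀, hb₀A⟩, 1, fun e => hb₀1 (congrArg Subtype.val e)⟩
  have hA'p : IsPGroup r A' := (OO_isPGroup r d.C).to_le inf_le_left
  haveI := hA'p.center_nontrivial
  obtain ⟨c', hc'ne⟩ := exists_ne (1 : Subgroup.center A')
  set c : G := ((c' : A') : G)
  have hc1 : c ≠ 1 := fun e => hc'ne (Subtype.ext (Subtype.ext e))
  have hcP : c ∈ OO r d.C := (c' : A').2.1
  have hcv : v * c = c * v := (mem_cent.1 (c' : A').2.2).symm
  have hcA : ∀ b ∈ A', b * c = c * b := fun b hb =>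
    congrArg Subtype.val (Subgroup.mem_center_iff.1 c'.2 ⟨b, hb⟩)
  obtain ⟨H0, hH0, hN0⟩ := exists_coatom_over (K.hyp.normalizer_ne_top
    (R := Subgroup.zpowers b₀) (fun e => hb₀1 (Subgroup.mem_bot.1 (e ▸ Subgroup.mem_zpowers b₀)))
    (hPo.of_dvd_nat (Subgroup.card_dvd_of_le (Subgroup.zpowers_le.2 hb₀.1))))
  obtain ⟨L0, hL0, hle0, hm0, hcent0⟩ := K.over hL.quasi hL.center_odd hv hvC hvz hzL hvL hxL hxP hx1 hxv hb₀.1 hb₀1
    hb₀v hb₀L hH0 hN0
  have hcH0 : c ∈ H0 := hN0 (mem_normalizer_zpowers (hcA b₀ hb₀A))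
  obtain ⟨Hs, hHs, hNs⟩ := exists_coatom_over (K.hyp.normalizer_ne_top
    (R := Subgroup.zpowers c) (fun e => hc1 (Subgroup.mem_bot.1 (e ▸ Subgroup.mem_zpowers c)))
    (hPo.of_dvd_nat (Subgroup.card_dvd_of_le (Subgroup.zpowers_le.2 hcP))))
  obtain ⟨Ls, hLs, hles, hms, hcents⟩ := K.over hL0.quasi hL0.center_odd hv hvC hvz (hle0 hzL) (hle0 hvL) (hle0 hxL)
    hxP hx1 hxv hcP hc1 hcv (hcent0 c hcP hcv hcH0) hHs hNs
  have hAs : ∀ b ∈ OO r d.C, v * b = b * v → ∀ l ∈ Ls, b * l = l * b := fun b hb hbv =>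
    hcents b hb hbv (hNs (mem_normalizer_zpowers (hcA b ⟨hb, mem_cent.2 hbv.symm⟩).symm))
  refine ⟨v, Hs, Ls, ⟨hv, hvC, hvz, hHs, hLs, hms, hles (hle0 hzL), hles (hle0 hvL), hAs, ?_⟩, b₀, hb₀.1, hb₀1, hb₀v⟩
  intro b hb hb1 hbv Hb hHb hNb
  obtain ⟨Lb, hLb, hleb, -, hcentb⟩ := K.over hLs.quasi hLs.center_odd hv hvC hvz (hles (hle0 hzL))
    (hles (hle0 hvL)) (hles (hle0 hxL)) hxP hx1 hxv hb hb1 hbv (hAs b hb hbv) hHb hNb
  have hcHb : c ∈ Hb := hNb (mem_normalizer_zpowers (hcA b ⟨hb, mem_cent.2 hbv.symm⟩))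
  have hLbH : Lb ≤ Hs := fun l hl => hNs (mem_normalizer_zpowers (hcentb c hcP hcv hcHb l hl))
  have heq : Lb = Ls := le_antisymm
    (le_of_mem hLb.quasi (fun k hk => hLs.norm k (hLbH hk)) (hleb (hles (hle0 hzL))) (hles (hle0 hzL)) (by
      by_contra hno
      push Not at hno
      exact not_mem_of_odd hLb.center_odd
        ((Subgroup.orderOf_mk d.z (hleb (hles (hle0 hzL)))).trans hz)
        (Subgroup.mem_center_iff.2 fun x => Subtype.ext (hno x x.2)))) hleb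
  haveI := hLs.perfect
  have hnt : Subgroup.normalizer (Ls : Set G) ≠ ⊤ := fun e => by
    haveI : Ls.Normal := Subgroup.normalizer_eq_top_iff.1 e
    rcases Subgroup.Normal.eq_bot_or_eq_top (H := Ls) inferInstance with e' | e'
    · exact hLs.ne e'
    · exact hHs.1 (top_le_iff.1 (e' ▸ hLs.le))
  have key : ∀ M : Subgroup G, IsCoatom M → (∀ g ∈ M, ∀ l ∈ Ls, g * l * g⁻¹ ∈ Ls) →
      M = Subgroup.normalizer (Ls : Set G) := fun M hM hn => by
    by_contra hne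
    exact hnt (hM.2 _ (lt_of_le_of_ne (fun g hg => Subgroup.mem_normalizer_fintype (hn g hg)) hne))
  rw [key Hb hHb (heq ▸ hLb.norm), key Hs hHs hLs.norm]

end CfsgLib.RankTwoModel
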