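import Cfsg.Agent.Lib.RankTwoModel.CMax.Step2
import Cfsg.Agent.Lib.RankTwoModel.CMax.Hom
import Cfsg.Agent.Lib.PGroup.CyclicMax
import Cfsg.Agent.Lib.CentralizeOmega

/-!
Conjugates under `D` share a fixed point on `P`: the contradiction.

Blueprint: `blueprint/RankTwo_L5.md` (P5, Step 3).
-/

set_option autoImplicit false
set_option linter.unusedSectionVars false
set_option linter.style.haveILetI false

namespace CfsgLib.RankTwoModel

open Cfsg CfsgLib.BG CfsgLib.GW CfsgLib.BenderMax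

universe u

variable {G : Type u} [Group G] [Finite G] {d : Frame G} {r : ℕ}

/-- Inverted elements commute if their product is inverted. -/
theorem comm_of_inverted {v a b : G} (ha : v * a * v⁻¹ = a⁻¹) (hb : v * b * v⁻¹ = b⁻¹)
    (hab : v * (a * b) * v⁻¹ = (a * b)⁻¹) : a * b = b * a := by
  rw [show v * (a * b) * v⁻¹ = (v * a * v⁻¹) * (v * b * v⁻¹) by group, ha, hb, ← mul_inv_rev, inv_inj] at hab
  exact hab.symm

variable {v : G} {H L : Subgroup G} (K : Cfg d r) (S : Star d r v H L)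
include K S

theorem Star.cent_le {b : G} (hb : b ∈ OO r d.C) (hb1 : b ≠ 1) (hbv : v * b = b * v) :
    Subgroup.normalizer (Subgroup.zpowers b : Set G) ≤ H := by
  obtain ⟨Hb, hHb, hNb⟩ := exists_coatom_over (K.hyp.normalizer_ne_top
    (R := Subgroup.zpowers b) (fun e => hb1 (Subgroup.mem_bot.1 (e ▸ Subgroup.mem_zpowers b)))
    ((OO_odd K.prime K.odd d.C).of_dvd_nat (Subgroup.card_dvd_of_le (Subgroup.zpowers_le.2 hb))))
  exact (S.unique b hb hb1 hbv Hb hHb hNb) ▸ hNb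

theorem Star.not_le : ¬ d.D ≤ H := by
  intro hD
  have hle : d.D ≤ L := K.spec.D_le_of_comm K.hyp K.lt S.invol S.mem_C S.ne
    (fun x hx k hk _ => S.comp.norm x (hD hx) k hk) (fun x hx => by
      rw [show v * x * v⁻¹ * x⁻¹ = v * (x * v⁻¹ * x⁻¹) by group]
      exact mul_mem S.vL (S.comp.norm x (hD hx) _ (inv_mem S.vL)))
  obtain ⟨x, hx, y, hy, hne⟩ := K.moves
  haveI := d.D_perfect
  exact hne (K.spec.scalar_trivial K.hyp K.lt le_rfl (fun y hy => ⟨1, one_mem _, by rwa [mul_one]⟩) S.invol S.mem_C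
    S.ne (fun y hy => d.D_conj S.mem_C hy) (OO_odd K.prime K.odd d.C)
    (fun y hy => mem_normalizer_OO (d.D_le hy)) (mem_normalizer_OO S.mem_C)
    (fun b hb hbv y hy => (S.cent b hb hbv y (hle hy)).symm) y hy x hx).symm

theorem Star.not_fixed {b : G} (hb : b ∈ OO r d.C) (hb1 : b ≠ 1) (hbv : v * b = b * v) :
    ¬ ∀ x ∈ d.D, x * b = b * x := fun hD =>
  S.not_le K fun x hx => S.cent_le K hb hb1 hbv (mem_normalizer_zpowers (hD x hx).symm)

theorem Star.conj_mem {b x : G} (hb : b ∈ OO r d.C) (hb1 : b ≠ 1) (hbv : v * b = b * v) (hx : x ∈ d.C)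
    (hxv : v * (x * b * x⁻¹) = x * b * x⁻¹ * v) : x ∈ H := by
  have hxb1 : x * b * x⁻¹ ≠ 1 := fun e => hb1 (conj_eq_one_iff.1 e)
  have hle : Subgroup.normalizer (Subgroup.zpowers (x * b * x⁻¹) : Set G) ≤ cj x H := by
    intro n hn
    refine mem_cj.2 (S.cent_le K hb hb1 hbv (Subgroup.mem_normalizer_fintype fun a ha => ?_))
    obtain ⟨i, rfl⟩ := Subgroup.mem_zpowers_iff.1 ha
    obtain ⟨j, hj⟩ := Subgroup.mem_zpowers_iff.1
      ((Subgroup.mem_normalizer_iff.1 hn _).1 (Subgroup.zpow_mem_zpowers (x * b * x⁻¹) i))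
    refine Subgroup.mem_zpowers_iff.2 ⟨j, ?_⟩
    rw [conj_zpow, conj_zpow] at hj
    calc b ^ j = x⁻¹ * (x * b ^ j * x⁻¹) * x := by group
      _ = _ := by rw [hj]; group
  have he := S.unique _ (conj_OO hx hb) hxb1 hxv (cj x H) (isCoatom_cj S.coatom) hle
  by_contra hxH
  haveI := K.hyp.simple
  have hxN : x ∈ Subgroup.normalizer (H : Set G) := Subgroup.mem_normalizer_fintype fun a ha => by
    show x * a * x⁻¹ ∈ H
    rw [← he]
    exact conj_mem_cj ha
  have htop := S.coatom.2 _ (lt_of_le_of_ne Subgroup.le_normalizer fun e => hxH (e.symm ▸ hxN))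
  haveI : H.Normal := Subgroup.normalizer_eq_top_iff.1 htop
  rcases Subgroup.Normal.eq_bot_or_eq_top (H := H) inferInstance with e | e
  · exact S.comp.ne (le_bot_iff.1 (e ▸ S.comp.le))
  · exact S.coatom.1 e

/-- An inverted elementary group commuting with a fixed element is small. -/
theorem Star.small {E : Subgroup G} (hE : E ≤ OO r d.C) (hexp : ∀ e ∈ E, e ^ r = 1)
    (hinv : ∀ e ∈ E, v * e * v⁻¹ = e⁻¹) {b : G} (hb : b ∈ OO r d.C) (hb1 : b ≠ 1) (hbv : v * b = b * v)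
    (hbE : ∀ e ∈ E, b * e = e * b) : Nat.card E ≤ r := by
  have hEo : Odd (Nat.card E) := (OO_odd K.prime K.odd d.C).of_dvd_nat (Subgroup.card_dvd_of_le hE)
  have hEH : E ≤ H := fun e he => S.cent_le K hb hb1 hbv (mem_normalizer_zpowers (hbE e he))
  have hEc : ∀ a ∈ E, ∀ c ∈ E, a * c = c * a := fun a ha c hc =>
    comm_of_inverted (hinv a ha) (hinv c hc) (hinv _ (mul_mem ha hc))
  have hEL : E ≤ L := fun e he =>
    mem_of_sq_mem hEo he (sq_mem_of_inverted S.invol S.vL (S.comp.norm e (hEH he)) (hinv e he))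
  haveI := cyclic_of_cent S.comp.center_odd S.model K.spec.zord S.zL hEL hEo hEc
    (fun e he => Frame.Spec.z_central (OO_le (hE he))) fun e he hec => Subtype.ext
      (eq_one_of_fixed_inverted hEo he (hinv _ he)
        (congrArg Subtype.val (Subgroup.mem_center_iff.1 hec ⟨v, S.vL⟩)))
  refine Nat.le_of_dvd K.prime.pos ?_
  rw [← IsCyclic.exponent_eq_card (α := E)]
  exact Monoid.exponent_dvd_of_forall_pow_eq_one fun e => Subtype.ext (hexp e e.2)

omit K S

/-- An odd `r`-group that is not cyclic has an element of order `r` outside the centre that is central modulo it. -/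
theorem exists_second {P : Type u} [Group P] [Finite P] (hr : r.Prime) (hr2 : r ≠ 2) (hP : IsPGroup r P)
    (hnc : ¬ IsCyclic P) {V : Subgroup P} [V.Normal] (hV : ∀ x : P, x ∈ V ↔ x ^ r = 1 ∧ x ∈ Subgroup.center P)
    (hVc : Nat.card V = r) : ∃ w : P, w ∉ V ∧ w ^ r = 1 ∧ ∀ y : P, w * y * w⁻¹ * y⁻¹ ∈ V := by
  haveI := Fact.mk hr
  obtain ⟨U, -, hUn, ⟨hUab, hUe⟩, hUc⟩ := CfsgLib.CyclicMax.exists_normal_sq hP hr2 (⊤ : Subgroup P)
    fun hc => hnc ((Subgroup.topEquiv (G := P)).isCyclic.mp hc)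
  haveI := hUn
  have hUV : ¬ U ≤ V := fun e => by
    have := Subgroup.card_le_of_le e
    rw [hUc, hVc] at this
    exact absurd this (not_le.2 (lt_self_pow₀ hr.one_lt (by norm_num)))
  obtain ⟨u0, hu0, hu0V⟩ := SetLike.not_le_iff_exists.1 hUV
  set f := QuotientGroup.mk' V
  have hne : U.map f ≠ ⊥ := fun e => hu0V ((QuotientGroup.eq_one_iff u0).1
    (Subgroup.mem_bot.1 (e ▸ Subgroup.mem_map_of_mem f hu0)))
  haveI : (U.map f).Normal := hUn.map f (QuotientGroup.mk'_surjective V)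
  obtain ⟨c, ⟨w, hw, rfl⟩, hco, hcc⟩ := CfsgLib.Comp.exists_central_in_normal (p := r) (X := P ⧸ V) (Q := ⊤)
    ((hP.to_quotient V).of_equiv Subgroup.topEquiv.symm) (M := U.map f) le_top
    (by rw [Subgroup.normalizer_eq_top_iff.2 inferInstance]) hne
  refine ⟨w, fun e => ?_, hUe w hw, fun y => ?_⟩
  · rw [show f w = 1 from (QuotientGroup.eq_one_iff w).2 e, orderOf_one] at hco
    exact hr.one_lt.ne hco
  · rw [← QuotientGroup.eq_one_iff]
    show f (w * y * w⁻¹ * y⁻¹) = 1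
    rw [map_mul, map_mul, map_mul, map_inv, map_inv, ← hcc (f y) trivial, mul_inv_cancel_right, mul_inv_cancel]

include K S

/-- **Step 3.** -/
theorem Star.false (hne : ∃ b ∈ OO r d.C, b ≠ 1 ∧ v * b = b * v) : False := by
  haveI := d.D_perfect
  haveI := Fact.mk K.prime
  have hv := S.invol
  have hvC := S.mem_C
  have hPo := OO_odd K.prime K.odd d.C
  have hPp := OO_isPGroup r d.C
  set P := OO r d.C with hP
  have hscal : ∀ {X : Subgroup G}, X ≤ P → (∀ c ∈ d.C, ∀ a ∈ X, c * a * c⁻¹ ∈ X) →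
      (∀ a ∈ X, v * a = a * v → a = 1) → ∀ y ∈ d.D, ∀ a ∈ X, y * a = a * y := fun {X} hX hn hfree =>
    K.spec.scalar_trivial K.hyp K.lt le_rfl (fun y hy => ⟨1, one_mem _, by rwa [mul_one]⟩) hv hvC S.ne
      (fun y hy => d.D_conj hvC hy) (hPo.of_dvd_nat (Subgroup.card_dvd_of_le hX))
      (fun y hy => Subgroup.mem_normalizer_fintype (hn y (d.D_le hy)))
      (Subgroup.mem_normalizer_fintype (hn v hvC))
      fun a ha hav y _ => by rw [hfree a ha hav, mul_one, one_mul]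
  obtain ⟨b₀, hb₀, hb₀1, hb₀v⟩ := hne
  -- `V`
  let V : Subgroup G :=
    { carrier := {x | x ∈ P ∧ x ^ r = 1 ∧ ∀ y ∈ P, x * y = y * x}
      one_mem' := ⟨one_mem _, one_pow r, fun y _ => by rw [one_mul, mul_one]⟩
      mul_mem' := fun {a b} ha hb => ⟨mul_mem ha.1 hb.1, by
          rw [(show Commute a b from ha.2.2 b hb.1).mul_pow, ha.2.1, hb.2.1, one_mul],
        fun y hy => (Commute.mul_left (show Commute a y from ha.2.2 y hy) (hb.2.2 y hy)).eq⟩
      inv_mem' := fun {a} ha => ⟨inv_mem ha.1, by rw [inv_pow, ha.2.1, inv_one],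
        fun y hy => ((show Commute a y from ha.2.2 y hy).inv_left).eq⟩ }
  have hVP : V ≤ P := fun x hx => hx.1
  have hVn : ∀ c ∈ d.C, ∀ a ∈ V, c * a * c⁻¹ ∈ V := fun c hc a ha => by
    refine ⟨conj_OO hc ha.1, by rw [conj_pow, ha.2.1, mul_one, mul_inv_cancel], fun y hy => ?_⟩
    have hy' : c⁻¹ * y * c ∈ P := by simpa using conj_OO (inv_mem hc) hy
    calc c * a * c⁻¹ * y = c * (a * (c⁻¹ * y * c)) * c⁻¹ := by group
      _ = c * ((c⁻¹ * y * c) * a) * c⁻¹ := by rw [ha.2.2 _ hy']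
      _ = y * (c * a * c⁻¹) := by group
  have hVc : ∀ a ∈ V, ∀ b ∈ V, a * b = b * a := fun a ha b hb => ha.2.2 b hb.1
  have hVo : Odd (Nat.card V) := hPo.of_dvd_nat (Subgroup.card_dvd_of_le hVP)
  have hVne : V ≠ ⊥ := fun e => by
    obtain ⟨c, hc, hco, hcc⟩ := CfsgLib.Comp.exists_central_in_normal (p := r) hPp le_rfl Subgroup.le_normalizer
      (fun e' => hb₀1 (Subgroup.mem_bot.1 (e' ▸ hb₀)))
    have hcV : c ∈ V := ⟨hc, by rw [← hco, pow_orderOf_eq_one], fun y hy => (hcc y hy).symm⟩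
    rw [e, Subgroup.mem_bot] at hcV
    rw [hcV, orderOf_one] at hco
    exact K.prime.one_lt.ne hco
  let Vm : Subgroup G :=
    { carrier := {x | x ∈ V ∧ v * x * v⁻¹ = x⁻¹}
      one_mem' := ⟨one_mem _, by simp⟩
      mul_mem' := fun {a b} ha hb => ⟨V.mul_mem ha.1 hb.1, by
        rw [show v * (a * b) * v⁻¹ = (v * a * v⁻¹) * (v * b * v⁻¹) by group, ha.2, hb.2, ← mul_inv_rev,
          hVc b hb.1 a ha.1]⟩
      inv_mem' := fun {a} ha => ⟨inv_mem ha.1, by
        rw [show v * a⁻¹ * v⁻¹ = (v * a * v⁻¹)⁻¹ by group, ha.2]⟩ }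
  have hVm : Nat.card Vm ≤ r := S.small K (fun x hx => hx.1.1) (fun x hx => hx.1.2.1) (fun x hx => hx.2)
    hb₀ hb₀1 hb₀v fun e he => (he.1.2.2 b₀ hb₀).symm
  set Vp := V ⊓ Subgroup.centralizer ({v} : Set G) with hVpdef
  have hVcard : Nat.card V = Nat.card Vp * Nat.card Vm :=
    (Cfsg.Agent.S1124.result v hv V hVo (hVn v hvC)).2.1
  have hpow : ∀ {X : Subgroup G}, X ≤ P → X ≠ ⊥ → r ≤ Nat.card X := fun {X} hX hne => by
    obtain ⟨i, hi⟩ := (hPp.to_le hX).exists_card_eq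
    rw [hi]
    exact Nat.le_self_pow (fun e => hne (Subgroup.eq_bot_of_card_eq _ (by rw [hi, e, pow_zero]))) r
  -- `v` inverts `V`
  have hVfree : ∀ a ∈ V, v * a = a * v → a = 1 := by
    intro a ha hav
    by_contra ha1
    have haVp : a ∈ Vp := ⟨ha, mem_cent.2 hav.symm⟩
    obtain ⟨x, hx, hxtriv⟩ : ∃ x ∈ d.D, ∀ c ∈ Vp, x * c * x⁻¹ ∈ Vp → c = 1 := by
      by_contra hno
      push Not at hno
      refine S.not_le K fun x hx => ?_
      obtain ⟨c, hc, hxc, hc1⟩ := hno x hx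
      exact S.conj_mem K hc.1.1 hc1 (mem_cent.1 hc.2).symm (d.D_le hx) (mem_cent.1 hxc.2).symm
    have hsq : Nat.card Vp * Nat.card Vp ≤ Nat.card V := by
      rw [← Nat.card_prod]
      refine Nat.card_le_card_of_injective
        (fun p : Vp × Vp => (⟨(p.1 : G) * (x * p.2 * x⁻¹), mul_mem p.1.2.1 (hVn x (d.D_le hx) _ p.2.2.1)⟩ : V)) ?_
      rintro ⟨⟨p, hp⟩, ⟨q, hq⟩⟩ ⟨⟨p', hp'⟩, ⟨q', hq'⟩⟩ e
      have e' : p * (x * q * x⁻¹) = p' * (x * q' * x⁻¹) := congrArg Subtype.val e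
      have h1 : x * (q * q'⁻¹) * x⁻¹ = p⁻¹ * p' := by
        calc x * (q * q'⁻¹) * x⁻¹ = p⁻¹ * (p * (x * q * x⁻¹)) * (x * q' * x⁻¹)⁻¹ := by group
          _ = _ := by rw [e']; group
      have h2 := hxtriv _ (mul_mem hq (inv_mem hq')) (h1 ▸ mul_mem (inv_mem hp) hp')
      have hqq : q = q' := mul_inv_eq_one.1 h2
      subst hqq
      have hpp : p = p' := mul_right_cancel e'
      subst hpp
      rfl
    have hrp : r ≤ Nat.card Vp := hpow (inf_le_left.trans hVP) fun e => ha1 (Subgroup.mem_bot.1 (e ▸ haVp))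
    have hle : Nat.card Vp ≤ Nat.card Vm :=
      Nat.le_of_mul_le_mul_left (hsq.trans hVcard.le) Nat.card_pos
    have hcard : Nat.card V = r ^ 2 := by
      rw [hVcard, le_antisymm (hle.trans hVm) hrp, le_antisymm hVm (hrp.trans hle), sq]
    have hpl := K.spec.plane_trivial K.hyp K.lt hv hvC S.ne K.prime K.odd (W := V) (V := ⊥)
      (hVP.trans OO_le) bot_le hVn (fun c _ e he => by rw [Subgroup.mem_bot] at he ⊢; simp [he])
      (fun e he f hf => by rw [Subgroup.mem_bot, hVc e he f hf]; group) hVo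
      (fun _ _ _ _ _ _ _ _ => by rw [Subgroup.card_bot, mul_one, hcard])
    refine S.not_fixed K ha.1 ha1 hav fun y hy => ?_
    have h1 := Subgroup.mem_bot.1 (hpl y hy a ha)
    exact mul_inv_eq_iff_eq_mul.1 (mul_inv_eq_one.1 h1)
  have hVinv := inverts_of_free hVo hv (Subgroup.mem_normalizer_fintype (hVn v hvC)) hVfree
  have hVr : Nat.card V = r := le_antisymm
    ((Subgroup.card_le_of_le (show V ≤ Vm from fun x hx => ⟨hx, hVinv x hx⟩)).trans hVm) (hpow hVP hVne)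
  have hDV := hscal hVP hVn hVfree
  -- `P` is not cyclic
  have hPnc : ¬ IsCyclic P := fun hc => by
    obtain ⟨y, hy, hmv⟩ := K.invol_moves hv hvC S.ne
    obtain ⟨c, hc', hcp, hci⟩ := exists_inverted hPo hv (mem_normalizer_OO hvC) hy hmv
    exact not_fixed_and_inverted K.prime K.odd hPp (mem_normalizer_OO hvC) hb₀ hb₀1
      (mul_inv_eq_iff_eq_mul.2 hb₀v) hc' (fun e => by rw [e, orderOf_one] at hcp; exact Nat.not_prime_one hcp) hci
  have hVP' : ∀ a ∈ V, ∀ y ∈ P, a * y = y * a := fun a ha => ha.2.2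
  -- `W`
  have hcm : ∀ {a y : G}, a * y * a⁻¹ * y⁻¹ ∈ V → a ∈ P → y ∈ P → Commute (a * y * a⁻¹ * y⁻¹) a ∧
      Commute (a * y * a⁻¹ * y⁻¹) y := fun hc ha hy => ⟨hVP' _ hc _ ha, hVP' _ hc _ hy⟩
  let W : Subgroup G :=
    { carrier := {w | w ∈ P ∧ w ^ r = 1 ∧ ∀ y ∈ P, w * y * w⁻¹ * y⁻¹ ∈ V}
      one_mem' := ⟨one_mem _, one_pow r, fun y _ => by simp⟩
      mul_mem' := fun {a b} ha hb => ⟨mul_mem ha.1 hb.1, by
          set c := b * a * b⁻¹ * a⁻¹ with hcdef
          have hc : c ∈ V := hb.2.2 a ha.1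
          have e : b * a = c * (a * b) := by rw [hcdef]; group
          obtain ⟨k, hk⟩ : 2 ∣ r - 1 := by
            obtain ⟨j, hj⟩ := K.prime.odd_of_ne_two K.odd
            exact ⟨j, by omega⟩
          rw [CfsgLib.mul_pow_central e (hVP' c hc a ha.1) (hVP' c hc b hb.1) r, hk,
            show r * (2 * k) = 2 * (r * k) by ring, Nat.mul_div_cancel_left _ two_pos, pow_mul, hc.2.1, one_pow,
            one_mul, ha.2.1, hb.2.1, one_mul],
        fun y hy => by
          have e : a * b * y * (a * b)⁻¹ * y⁻¹ = a * (b * y * b⁻¹ * y⁻¹) * a⁻¹ * (a * y * a⁻¹ * y⁻¹) := by group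
          show a * b * y * (a * b)⁻¹ * y⁻¹ ∈ V
          rw [e, ← hVP' _ (hb.2.2 y hy) a ha.1, mul_inv_cancel_right]
          exact V.mul_mem (hb.2.2 y hy) (ha.2.2 y hy)⟩
      inv_mem' := fun {a} ha => ⟨inv_mem ha.1, by rw [inv_pow, ha.2.1, inv_one], fun y hy => by
          have e : a⁻¹ * y * a⁻¹⁻¹ * y⁻¹ = a⁻¹ * (a * y * a⁻¹ * y⁻¹)⁻¹ * a := by group
          rw [e, mul_assoc, hVP' _ (inv_mem (ha.2.2 y hy)) a ha.1, inv_mul_cancel_left]
          exact inv_mem (ha.2.2 y hy)⟩ }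
  have hWP : W ≤ P := fun x hx => hx.1
  have hWo : Odd (Nat.card W) := hPo.of_dvd_nat (Subgroup.card_dvd_of_le hWP)
  have hWn : ∀ c ∈ d.C, ∀ a ∈ W, c * a * c⁻¹ ∈ W := fun c hc a ha => by
    refine ⟨conj_OO hc ha.1, by rw [conj_pow, ha.2.1, mul_one, mul_inv_cancel], fun y hy => ?_⟩
    have hy' : c⁻¹ * y * c ∈ P := by simpa using conj_OO (inv_mem hc) hy
    have := hVn c hc _ (ha.2.2 _ hy')
    rwa [show c * (a * (c⁻¹ * y * c) * a⁻¹ * (c⁻¹ * y * c)⁻¹) * c⁻¹ = c * a * c⁻¹ * y * (c * a * c⁻¹)⁻¹ * y⁻¹ by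
      group] at this
  have hVW : V ≤ W := fun x hx => ⟨hx.1, hx.2.1, fun y hy => by
    rw [hx.2.2 y hy, mul_inv_cancel_right, mul_inv_cancel]; exact one_mem _⟩
  obtain ⟨w₀, hw₀W, hw₀V⟩ : ∃ w, w ∈ W ∧ w ∉ V := by
    haveI : (V.subgroupOf P).Normal := ⟨fun a ha y => hVn y (OO_le y.2) a ha⟩
    obtain ⟨w, hwV, hwr, hwc⟩ := exists_second K.prime K.odd hPp hPnc (V := V.subgroupOf P)
      (fun x => ⟨fun hx => ⟨Subtype.ext hx.2.1, Subgroup.mem_center_iff.2 fun y => Subtype.ext (hx.2.2 y y.2).symm⟩,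
        fun hx => ⟨x.2, congrArg Subtype.val hx.1, fun y hy =>
          (congrArg Subtype.val (Subgroup.mem_center_iff.1 hx.2 ⟨y, hy⟩)).symm⟩⟩)
      ((Nat.card_congr (Subgroup.subgroupOfEquivOfLe hVP).toEquiv).trans hVr)
    exact ⟨w, ⟨w.2, congrArg Subtype.val hwr, fun y hy => hwc ⟨y, hy⟩⟩, hwV⟩
  -- inverted elements of order `r` commuting with a fixed one lie in `V`
  have hnobig : ∀ {w b : G}, w ∈ P → w ^ r = 1 → v * w * v⁻¹ = w⁻¹ → b ∈ P → b ≠ 1 → v * b = b * v →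
      b * w = w * b → w ∈ V := by
    intro w b hw hwr hwv hb hb1 hbv hbw
    by_contra hwV
    let E : Subgroup G := V ⊔ Subgroup.zpowers w
    have hVwn : Subgroup.zpowers w ≤ Subgroup.normalizer (V : Set G) :=
      zpowers_le_normalizer (hVn w (OO_le hw))
    have hdec : ∀ e ∈ E, ∃ a ∈ V, ∃ i : ℤ, e = a * w ^ i := fun e he => by
      rw [← SetLike.mem_coe, Subgroup.coe_mul_of_right_le_normalizer_left V (Subgroup.zpowers w) hVwn] at he
      obtain ⟨a, ha, _, ⟨i, rfl⟩, rfl⟩ := he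
      exact ⟨a, ha, i, rfl⟩
    have hsm : Nat.card E ≤ r := S.small K (sup_le hVP (Subgroup.zpowers_le.2 hw))
      (fun e he => by
        obtain ⟨a, ha, i, rfl⟩ := hdec e he
        rw [((show Commute a w from hVP' a ha w hw).zpow_right i).mul_pow, ha.2.1, one_mul, ← zpow_natCast,
          ← zpow_mul, mul_comm i, zpow_mul, zpow_natCast, hwr, one_zpow])
      (fun e he => by
        obtain ⟨a, ha, i, rfl⟩ := hdec e he
        rw [show v * (a * w ^ i) * v⁻¹ = (v * a * v⁻¹) * (v * w ^ i * v⁻¹) by group, hVinv a ha, ← conj_zpow, hwv,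
          inv_zpow, ((show Commute a w from hVP' a ha w hw).zpow_right i).eq, mul_inv_rev])
      hb hb1 hbv (fun e he => by
        obtain ⟨a, ha, i, rfl⟩ := hdec e he
        exact ((show Commute b a from (hVP' a ha b hb).symm).mul_right
          ((show Commute b w from hbw).zpow_right i)).eq)
    have hlt : V < E := lt_of_le_of_ne le_sup_left fun e => hwV (by
      rw [e]; exact Subgroup.mem_sup_right (Subgroup.mem_zpowers w))
    exact hlt.ne (Subgroup.eq_of_le_of_card_ge hlt.le (hsm.trans hVr.ge))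
  by_cases hWfree : ∀ a ∈ W, v * a = a * v → a = 1
  · -- `v` inverts `W`
    have hWinv := inverts_of_free hWo hv (Subgroup.mem_normalizer_fintype (hWn v hvC)) hWfree
    have hDW := hscal hWP hWn hWfree
    set C1 := P ⊓ Subgroup.centralizer (W : Set G) with hC1
    have hC1n : ∀ c ∈ d.C, ∀ a ∈ C1, c * a * c⁻¹ ∈ C1 := fun c hc a ha => by
      refine ⟨conj_OO hc ha.1, Subgroup.mem_centralizer_iff.2 fun y hy => ?_⟩
      have h1 : Commute (c⁻¹ * y * c) a := Subgroup.mem_centralizer_iff.1 ha.2 _ (by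
        simpa using hWn c⁻¹ (inv_mem hc) y hy)
      calc y * (c * a * c⁻¹) = c * ((c⁻¹ * y * c) * a) * c⁻¹ := by group
        _ = c * (a * (c⁻¹ * y * c)) * c⁻¹ := by rw [h1.eq]
        _ = _ := by group
    have hC1free : ∀ a ∈ C1, v * a = a * v → a = 1 := fun a ha hav => by
      by_contra ha1
      exact hw₀V (hnobig (hWP hw₀W) hw₀W.2.1 (hWinv w₀ hw₀W) ha.1 ha1 hav
        (Subgroup.mem_centralizer_iff.1 ha.2 w₀ hw₀W).symm)
    have hC1inv := inverts_of_free (hPo.of_dvd_nat (Subgroup.card_dvd_of_le inf_le_left)) hv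
      (Subgroup.mem_normalizer_fintype (hC1n v hvC)) hC1free
    have hC1c : ∀ a ∈ C1, ∀ b ∈ C1, a * b = b * a := fun a ha b hb =>
      comm_of_inverted (hC1inv a ha) (hC1inv b hb) (hC1inv _ (mul_mem ha hb))
    have hDC1 := hscal inf_le_left hC1n hC1free
    obtain ⟨x, hx, y, hy, hne⟩ := K.moves
    refine hne (stab_trivial (E := d.D) hC1c hDC1 (fun y hy a ha => ⟨(OO r d.C).mul_mem (conj_OO (d.D_le hy) ha) ((OO r d.C).inv_mem ha),
      Subgroup.mem_centralizer_iff.2 fun w hw => ?_⟩) y hy x hx).symm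
    have hc1 : Commute y (w * a * w⁻¹ * a⁻¹) := hDV y hy _ (hw.2.2 a ha)
    have hcw : Commute y w := hDW y hy w hw
    have hcV : Commute (w * a * w⁻¹ * a⁻¹) a := hVP' _ (hw.2.2 a ha) a ha
    calc w * (y * a * y⁻¹ * a⁻¹) = (w * y) * a * y⁻¹ * a⁻¹ := by group
      _ = (y * w) * a * y⁻¹ * a⁻¹ := by rw [hcw.eq]
      _ = y * ((w * a * w⁻¹ * a⁻¹) * a) * (w * y⁻¹) * a⁻¹ := by group
      _ = y * (a * (w * a * w⁻¹ * a⁻¹)) * (y⁻¹ * w) * a⁻¹ := by rw [hcV.eq, hcw.inv_left.eq]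
      _ = y * a * ((w * a * w⁻¹ * a⁻¹) * y⁻¹) * w * a⁻¹ := by group
      _ = y * a * (y⁻¹ * (w * a * w⁻¹ * a⁻¹)) * w * a⁻¹ := by rw [hc1.inv_left.eq]
      _ = y * a * y⁻¹ * ((w * a * w⁻¹ * a⁻¹) * (w * a⁻¹)) := by group
      _ = y * a * y⁻¹ * (a⁻¹ * ((w * a * w⁻¹ * a⁻¹) * a) * (w * a⁻¹)) := by rw [hcV.eq, inv_mul_cancel_left]
      _ = (y * a * y⁻¹ * a⁻¹) * w := by group
  -- `v` fixes something in `W`
  push Not at hWfree
  obtain ⟨a, haW, hav, ha1⟩ := hWfree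
  have hkey : ∀ c ∈ W, c ∉ V → v * c * v⁻¹ = c⁻¹ → ∀ e ∈ W, v * e = e * v → e * c = c * e → e = 1 :=
    fun c hc hcV hci e he hev hec => by_contra fun he1 => hcV (hnobig hc.1 hc.2.1 hci he.1 he1 hev hec)
  have hcardW : ∀ b ∈ W, b ∉ V → v * b * v⁻¹ = b⁻¹ → Nat.card W = r ^ 2 * Nat.card V := by
    intro b hb hbV hbi
    set Wp := W ⊓ Subgroup.centralizer ({v} : Set G) with hWp
    let f : Wp →* V := MonoidHom.mk' (fun e => ⟨(e : G) * b * (e : G)⁻¹ * b⁻¹, e.2.1.2.2 b hb.1⟩) fun p q =>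
      Subtype.ext (by
        show (p : G) * q * b * ((p : G) * q)⁻¹ * b⁻¹ = _ * _
        have hq := q.2.1.2.2 b hb.1
        rw [show (p : G) * q * b * ((p : G) * q)⁻¹ * b⁻¹ =
          (p : G) * ((q : G) * b * (q : G)⁻¹ * b⁻¹) * (b * (p : G)⁻¹ * b⁻¹) by group,
          ← hVP' _ hq p p.2.1.1, mul_assoc, show (p : G) * (b * (p : G)⁻¹ * b⁻¹) = (p : G) * b * (p : G)⁻¹ * b⁻¹ by
            group]
        exact hVc _ hq _ (p.2.1.2.2 b hb.1))
    have hf : Function.Injective f := (injective_iff_map_eq_one f).2 fun e he => Subtype.ext (hkey b hb hbV hbi _ e.2.1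
      (mem_cent.1 e.2.2).symm (mul_inv_eq_iff_eq_mul.1 (mul_inv_eq_one.1 (congrArg Subtype.val he))))
    have hWpr : Nat.card Wp ≤ r := (Nat.card_le_card_of_injective f hf).trans hVr.le
    let g : W →* V := MonoidHom.mk' (fun e => ⟨(e : G) * a * (e : G)⁻¹ * a⁻¹, e.2.2.2 a haW.1⟩) fun p q =>
      Subtype.ext (by
        show (p : G) * q * a * ((p : G) * q)⁻¹ * a⁻¹ = _ * _
        have hq := q.2.2.2 a haW.1
        rw [show (p : G) * q * a * ((p : G) * q)⁻¹ * a⁻¹ =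
          (p : G) * ((q : G) * a * (q : G)⁻¹ * a⁻¹) * (a * (p : G)⁻¹ * a⁻¹) by group,
          ← hVP' _ hq p p.2.1, mul_assoc, show (p : G) * (a * (p : G)⁻¹ * a⁻¹) = (p : G) * a * (p : G)⁻¹ * a⁻¹ by
            group]
        exact hVc _ hq _ (p.2.2.2 a haW.1))
    set Wa := W ⊓ Subgroup.centralizer ({a} : Set G) with hWa
    have hWan : ∀ e ∈ Wa, v * e * v⁻¹ ∈ Wa := fun e he => ⟨hWn v hvC e he.1, mem_cent.2 (by
      have h1 : Commute e a := mem_cent.1 he.2
      have h2 : Commute v a := hav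
      exact ((h2.mul_left h1).mul_left h2.inv_left).eq)⟩
    have hWac : Nat.card Wa ≤ Nat.card Wp * r := by
      rw [(Cfsg.Agent.S1124.result v hv Wa (hWo.of_dvd_nat (Subgroup.card_dvd_of_le inf_le_left)) hWan).2.1]
      refine Nat.mul_le_mul (Subgroup.card_le_of_le fun e he => ⟨he.1.1, he.2⟩) ?_
      refine le_trans (Nat.card_mono (Set.toFinite (V : Set G)) fun e he => ?_) hVr.le
      exact hnobig he.1.1.1 he.1.1.2.1 he.2 haW.1 ha1 hav (mem_cent.1 he.1.2).symm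
    have hker : Nat.card g.ker ≤ Nat.card Wa := Nat.card_le_card_of_injective
      (fun e : g.ker => (⟨((e : W) : G), (e : W).2,
        mem_cent.2 (mul_inv_eq_iff_eq_mul.1 (mul_inv_eq_one.1 (congrArg Subtype.val e.2)))⟩ : Wa))
      fun p q h1 => Subtype.ext (Subtype.ext (congrArg Subtype.val h1 :))
    have hrange : Nat.card g.range ≤ r := (Subgroup.card_le_card_group g.range).trans hVr.le
    have hW3 : Nat.card W ≤ r * (r * r) := by
      rw [Subgroup.card_eq_card_quotient_mul_card_subgroup g.ker,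
        Nat.card_congr (QuotientGroup.quotientKerEquivRange g).toEquiv]
      exact Nat.mul_le_mul hrange (hker.trans (hWac.trans (Nat.mul_le_mul hWpr le_rfl)))
    -- lower bound
    have hba : ∀ n : ℤ, a ^ n ∈ Subgroup.centralizer ({v} : Set G) :=
      fun n => zpow_mem (mem_cent.2 hav.symm) n
    set T := V ⊔ Subgroup.zpowers a with hT
    have hTW : T ≤ W := sup_le hVW (Subgroup.zpowers_le.2 haW)
    have hTv : ∀ e ∈ T, v * e * v⁻¹ = e⁻¹ → e ∈ V := fun e he hei => by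
      rw [hT, ← SetLike.mem_coe, Subgroup.coe_mul_of_right_le_normalizer_left V (Subgroup.zpowers a)
        (zpowers_le_normalizer (hVn a (OO_le haW.1)))] at he
      obtain ⟨c, hc, _, ⟨i, rfl⟩, rfl⟩ := he
      have h1 : a ^ i = (a ^ i)⁻¹ := by
        rw [show v * (c * a ^ i) * v⁻¹ = (v * c * v⁻¹) * (v * a ^ i * v⁻¹) by group, hVinv c hc,
          ← mem_cent.1 (hba i), mul_inv_cancel_right, mul_inv_rev,
          ← (show Commute c⁻¹ (a ^ i)⁻¹ from hVP' _ (inv_mem hc) _ (inv_mem (zpow_mem haW.1 i))).eq] at hei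
        exact mul_left_cancel hei
      have h2 : a ^ i = 1 := eq_one_of_sq hPo (zpow_mem haW.1 i) (by
        nth_rewrite 2 [h1]; exact mul_inv_cancel _)
      show c * a ^ i ∈ V
      rw [h2, mul_one]
      exact hc
    have hltT : V < T := lt_of_le_of_ne le_sup_left fun e => ha1 (hVfree a (by
      rw [e]; exact Subgroup.mem_sup_right (Subgroup.mem_zpowers a)) hav)
    have hTlt : T < W := lt_of_le_of_ne hTW fun e => hbV (hTv b (e ▸ hb) hbi)
    obtain ⟨i, hi⟩ := (hPp.to_le hWP).exists_card_eq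
    obtain ⟨j, hj⟩ := (hPp.to_le (hTW.trans hWP)).exists_card_eq
    have h1 : r ^ 1 < r ^ j := by
      rw [← hj, pow_one]
      refine hVr.symm.trans_lt ?_
      exact lt_of_le_of_ne (Subgroup.card_le_of_le hltT.le) fun e =>
        hltT.ne (Subgroup.eq_of_le_of_card_ge hltT.le e.ge)
    have h2 : r ^ j < r ^ i := by
      rw [← hi, ← hj]
      exact lt_of_le_of_ne (Subgroup.card_le_of_le hTlt.le) fun e =>
        hTlt.ne (Subgroup.eq_of_le_of_card_ge hTlt.le e.ge)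
    have h3 : r ^ i ≤ r ^ 3 := by rw [← hi]; exact hW3.trans_eq (by ring)
    rw [Nat.pow_lt_pow_iff_right K.prime.one_lt] at h1 h2
    rw [Nat.pow_le_pow_iff_right K.prime.one_lt] at h3
    rw [hi, hVr, show i = 3 by omega]
    ring
  have hpl := K.spec.plane_trivial K.hyp K.lt hv hvC S.ne K.prime K.odd (W := W) (V := V)
    (hWP.trans OO_le) hVW hWn hVn (fun p hp q hq => hp.2.2 q hq.1) hWo
    (fun _ _ _ _ b hb hbV hbi => hcardW b hb hbV hbi)
  exact S.not_fixed K haW.1 ha1 hav fun y hy => stab_trivial (E := d.D) hVc hDV hpl y hy a haW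

end CfsgLib.RankTwoModel
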